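import Cfsg.Agent.Lib.FischerPair.Model
import Cfsg.Agent.Lib.M22Struct66.Facts

/-!
# Two commuting transpositions of a group of type M(22): the joint centraliser
-/

set_option autoImplicit false
set_option linter.style.haveILetI false
set_option linter.unusedSectionVars false

namespace Cfsg.Agent.Lib.FischerPair

open Cfsg Cfsg.Agent.Lib.ThreeTransp Cfsg.Agent.Lib.M22Struct66
open Cfsg.Agent.Lib.PSUAut (SUType proj act eich proj_surjective act_mul act_form act_ne_zero)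
open Cfsg.Agent.Lib.Classical (uT uInd uT_apply uInd_apply uExt hermSpace_std)
open Cfsg.Agent.Lib.MinIndexUnitary (suV)
open Cfsg.Agent.Lib.ThreeTransp.PSUSix (card' IsPt)

variable {G : Type*} [Group G] {D : Set G}

/-- The joint centraliser. -/
abbrev Kp (d₁ d₂ : G) : Subgroup G := Subgroup.centralizer ({d₁, d₂} : Set G)

/-- The centraliser of the product. -/
abbrev Cp (d₁ d₂ : G) : Subgroup G := Subgroup.centralizer ({d₁ * d₂} : Set G)

theorem mem_Kp {d₁ d₂ g : G} : g ∈ Kp d₁ d₂ ↔ Commute g d₁ ∧ Commute g d₂ := by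
  simp only [Subgroup.mem_centralizer_iff, Set.mem_insert_iff, Set.mem_singleton_iff, forall_eq_or_imp,
    forall_eq]
  exact ⟨fun h => ⟨h.1.symm, h.2.symm⟩, fun h => ⟨h.1.symm, h.2.symm⟩⟩

theorem mem_Cp {d₁ d₂ g : G} : g ∈ Cp d₁ d₂ ↔ Commute g (d₁ * d₂) := Subgroup.mem_centralizer_singleton_iff

theorem Kp_le_Cp (d₁ d₂ : G) : Kp d₁ d₂ ≤ Cp d₁ d₂ := fun _ hg =>
  mem_Cp.2 ((mem_Kp.1 hg).1.mul_right (mem_Kp.1 hg).2)

/-- A member commuting with a product of two commutes with both. -/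
theorem commute_of_commute_mul (hD : IsThreeTranspositionSet D) {a b y : G} (ha : a ∈ D) (hb : b ∈ D)
    (hy : y ∈ D) (hab : a ≠ b) (h : Commute y (a * b)) : Commute y a ∧ Commute y b := by
  by_cases hya : Commute y a
  · refine ⟨hya, ?_⟩
    have := hya.mul_right h
    rwa [mul_self_assoc hD ha] at this
  by_cases hyb : Commute y b
  · refine ⟨?_, hyb⟩
    have := h.mul_right hyb
    rwa [mul_mul_cancel_right hD hb] at this
  exfalso
  have hba : y * a * y = a * y * a := braid hD hy ha hya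
  have hbb : y * b * y = b * y * b := braid hD hy hb hyb
  refine hab ?_
  have h1 : y * (a * b) * y = a * b := by rw [h.eq, mul_mul_cancel_right hD hy]
  have h2 : y * (a * b) * y = 1 := by
    calc y * (a * b) * y = (y * a * y) * (y * b * y) := by
          simp only [mul_assoc, mul_self_assoc hD hy]
      _ = a * (y * (a * b)) * (y * b) := by rw [hba, hbb]; simp only [mul_assoc]
      _ = a * (a * b * y) * (y * b) := by rw [h.eq]
      _ = 1 := by simp only [mul_assoc, mul_self_assoc hD hy, mul_self_assoc hD ha, mul_self hD hb]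
  rw [h1] at h2
  exact (mul_eq_one_iff_eq_inv.1 h2).trans (inv_eq hD hb)

/-- The centraliser of the product permutes the pair. -/
theorem pair_cases (hX : Ctx D) {d₁ d₂ c : G} (h1 : d₁ ∈ D) (h2 : d₂ ∈ nb D d₁) (hc : c ∈ Cp d₁ d₂) :
    (c * d₁ * c⁻¹ = d₁ ∧ c * d₂ * c⁻¹ = d₂) ∨ (c * d₁ * c⁻¹ = d₂ ∧ c * d₂ * c⁻¹ = d₁) := by
  have hS := hX.set
  set a := c * d₁ * c⁻¹ with ha
  set b := c * d₂ * c⁻¹ with hb
  have haD : a ∈ D := hX.conj c d₁ h1
  have hbD : b ∈ D := hX.conj c d₂ h2.1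
  have hab : Commute a b := (commute_conj_iff c).2 h2.2.2
  have hne : a ≠ b := fun e => h2.2.1 (mul_left_cancel (mul_right_cancel e)).symm
  have hprod : a * b = d₁ * d₂ := by
    rw [ha, hb, show c * d₁ * c⁻¹ * (c * d₂ * c⁻¹) = c * (d₁ * d₂) * c⁻¹ by group, (mem_Cp.1 hc).eq,
      mul_inv_cancel_right]
  have hxa : Commute a (d₁ * d₂) := hprod ▸ ((Commute.refl a).mul_right hab)
  have hxb : Commute b (d₁ * d₂) := hprod ▸ (hab.symm.mul_right (Commute.refl b))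
  obtain ⟨ha1, ha2⟩ := commute_of_commute_mul hS h1 h2.1 haD h2.2.1.symm hxa
  obtain ⟨hb1, hb2⟩ := commute_of_commute_mul hS h1 h2.1 hbD h2.2.1.symm hxb
  by_cases e1 : a = d₁
  · exact Or.inl ⟨e1, mul_left_cancel (e1 ▸ hprod : d₁ * b = d₁ * d₂)⟩
  by_cases e2 : a = d₂
  · refine Or.inr ⟨e2, mul_left_cancel (a := d₂) ?_⟩
    rw [e2] at hprod
    rw [hprod, h2.2.2.eq]
  exfalso
  by_cases e3 : b = d₂
  · rw [e3] at hprod
    exact e1 (mul_right_cancel hprod)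
  by_cases e4 : b = d₁
  · rw [e4, h2.2.2.eq] at hprod
    exact e2 (mul_right_cancel hprod)
  refine hX.noFour [a, b, d₂, d₁] ?_ rfl ?_ ?_ ?_
  · simp [e1, e2, e3, e4, hne, h2.2.1]
  · simp [haD, hbD, h1, h2.1]
  · simp [hab, hab.symm, ha1, ha1.symm, ha2, ha2.symm, hb1, hb1.symm, hb2, hb2.symm, h2.2.2, h2.2.2.symm,
      Commute.refl]
  · simp only [List.prod_cons, List.prod_nil, mul_one]
    rw [← mul_assoc, hprod, mul_assoc, mul_self_assoc hS h2.1, mul_self hS h1]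

/-- An element exchanging a commuting pair. -/
theorem swap_spec (hD : IsThreeTranspositionSet D) {a b f : G} (ha : a ∈ D) (hb : b ∈ D) (hf : f ∈ D)
    (hab : Commute a b) (hfa : ¬ Commute f a) (hfb : ¬ Commute f b) :
    f * (a * b) * f * a * (f * (a * b) * f)⁻¹ = b := by
  have e1 : f * a * f = a * f * a := braid hD hf ha hfa
  have e2 : f * b * f = b * f * b := braid hD hf hb hfb
  have haba : a * (b * a) = b := by rw [← hab.eq, mul_self_assoc hD ha]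
  calc f * (a * b) * f * a * (f * (a * b) * f)⁻¹ = f * a * b * (f * a * f) * b * a * f := by
        simp only [mul_inv_rev, inv_eq hD hf, inv_eq hD ha, inv_eq hD hb, mul_assoc]
    _ = f * (a * (b * a)) * f * (a * (b * a)) * f := by rw [e1]; simp only [mul_assoc]
    _ = (f * b * f) * (b * f) := by rw [haba]; simp only [mul_assoc]
    _ = b := by
      rw [e2]
      simp only [mul_assoc, mul_self_assoc hD hb, mul_self hD hf, mul_one]

/-- The standing data. -/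
structure Setup (D : Set G) (F : Type) [Field F] [Fintype F] (d₁ d₂ : G) where
  hX : Charted D F
  cent : ∀ d ∈ D, Subgroup.centralizer ({d} : Set G) = Subgroup.closure (nb D d)
  self : ∀ d ∈ D, d ∈ Subgroup.closure (nb D d)
  h1 : d₁ ∈ D
  h2 : d₂ ∈ nb D d₁
  C1 : Chart D d₁ F
  co : Coord hX.card (C1.pt h2)
  f : G
  hf : f ∈ D
  hf1 : ¬ Commute f d₁
  hf2 : ¬ Commute f d₂

theorem exists_setup [Finite G] {F : Type} [Field F] [Fintype F] (hX : Charted D F) (hfac : Facts D)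
    {d₁ d₂ : G} (h1 : d₁ ∈ D) (h2 : d₂ ∈ nb D d₁) : Nonempty (Setup D F d₁ d₂) := by
  obtain ⟨C1⟩ := hX.chart d₁ h1
  obtain ⟨co⟩ := exists_coord hX.card (C1.isPt h2).1 (C1.isPt h2).2
  obtain ⟨f, hf, hf'⟩ : ∃ f ∈ D, f ∉ insert d₁ (nb D d₁) ∪ insert d₂ (nb D d₂) := by
    by_contra! hall
    have hle := Set.ncard_le_ncard (fun x hx => hall x hx) (Set.toFinite _)
    have := Set.ncard_union_le (insert d₁ (nb D d₁)) (insert d₂ (nb D d₂))
    have e1 := Set.ncard_insert_le d₁ (nb D d₁)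
    have e2 := Set.ncard_insert_le d₂ (nb D d₂)
    rw [hfac.ncard_nb d₁ h1] at e1
    rw [hfac.ncard_nb d₂ h2.1] at e2
    rw [hfac.ncard_D] at hle
    omega
  simp only [Set.mem_union, Set.mem_insert_iff, Set.mem_ofPred_eq, hf, true_and, not_or] at hf'
  exact ⟨⟨hX, hfac.centralizer_eq, hfac.self_mem, h1, h2, C1, co, f, hf,
    fun h => hf'.1.2 ⟨hf'.1.1, h.symm⟩, fun h => hf'.2.2 ⟨hf'.2.1, h.symm⟩⟩⟩

namespace Setup

variable {F : Type} [Field F] [Fintype F] {d₁ d₂ : G}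
variable (S : Setup D F d₁ d₂)

local notation "hF" => S.hX.card
local notation "β" => Cfsg.hermForm 4 F 2
local notation "σ" => Forms.qPowHom (card' S.hX.card)
local notation "hW" => hermSpace_std (card' S.hX.card) 4

/-- The point of `d₂`. -/
noncomputable abbrev v₀ : Fin 6 → F := S.C1.pt S.h2

include S

theorem set : IsThreeTranspositionSet D := S.hX.set

theorem exists_swap : ∃ s ∈ Cp d₁ d₂, s * d₁ * s⁻¹ = d₂ ∧ s * d₂ * s⁻¹ = d₁ := by
  refine ⟨S.f * (d₁ * d₂) * S.f, ?_, swap_spec S.set S.h1 S.h2.1 S.hf S.h2.2.2 S.hf1 S.hf2, ?_⟩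
  · have e1 := swap_spec S.set S.h1 S.h2.1 S.hf S.h2.2.2 S.hf1 S.hf2
    have e2 := swap_spec S.set S.h2.1 S.h1 S.hf S.h2.2.2.symm S.hf2 S.hf1
    rw [← S.h2.2.2.eq] at e2
    rw [mem_Cp, commute_iff_eq, ← mul_inv_eq_iff_eq_mul]
    set s := S.f * (d₁ * d₂) * S.f
    rw [show s * (d₁ * d₂) * s⁻¹ = (s * d₁ * s⁻¹) * (s * d₂ * s⁻¹) by group, e1, e2, S.h2.2.2.eq]
  · have e2 := swap_spec S.set S.h2.1 S.h1 S.hf S.h2.2.2.symm S.hf2 S.hf1
    rwa [← S.h2.2.2.eq] at e2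

theorem cases {c : G} (hc : c ∈ Cp d₁ d₂) :
    c ∈ Kp d₁ d₂ ∨ (c * d₁ * c⁻¹ = d₂ ∧ c * d₂ * c⁻¹ = d₁) := by
  rcases pair_cases S.hX.toCtx S.h1 S.h2 hc with ⟨e1, e2⟩ | h
  · exact Or.inl (mem_Kp.2 ⟨mul_inv_eq_iff_eq_mul.1 e1, mul_inv_eq_iff_eq_mul.1 e2⟩)
  · exact Or.inr h

theorem conj_mem_Kp {c k : G} (hc : c ∈ Cp d₁ d₂) (hk : k ∈ Kp d₁ d₂) : c * k * c⁻¹ ∈ Kp d₁ d₂ := by
  obtain ⟨k1, k2⟩ := mem_Kp.1 hk
  rcases S.cases hc with h | ⟨e1, e2⟩
  · exact mul_mem (mul_mem h hk) (inv_mem h)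
  · exact mem_Kp.2 ⟨e2 ▸ (commute_conj_iff c).2 k2, e1 ▸ (commute_conj_iff c).2 k1⟩

theorem mem_closure {g : G} (hg : g ∈ Kp d₁ d₂) : g ∈ Subgroup.closure (nb D d₁) := by
  rw [← S.cent d₁ S.h1]
  exact Subgroup.mem_centralizer_singleton_iff.2 (mem_Kp.1 hg).1.eq

/-- The inclusion in the chart. -/
def toChart : Kp d₁ d₂ →* ↥(Subgroup.closure (nb D d₁)) :=
  (Kp d₁ d₂).subtype.codRestrict _ fun k => S.mem_closure k.2

theorem toChart_coe (k : Kp d₁ d₂) : (S.toChart k : G) = k := rfl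

theorem conj_nb {g : G} (hg : Commute g d₁) {x : G} (hx : x ∈ nb D d₁) : g * x * g⁻¹ ∈ nb D d₁ := by
  have := conj_mem_nb S.hX.conj g hx
  rwa [hg.eq, mul_inv_cancel_right] at this

theorem ψ_conj {g : ↥(Subgroup.closure (nb D d₁))} {s : SUType 6 F 2} (hs : proj s = S.C1.ψ g) {x : G}
    (hx : x ∈ nb D d₁) (hx' : (g : G) * x * (g : G)⁻¹ ∈ nb D d₁) {v : Fin 6 → F} (hv : IsPt v)
    (hxv : S.C1.ψ (inc hx) = PSUSix.tv v) : S.C1.ψ (inc hx') = PSUSix.tv (act s v) := by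
  rw [show inc hx' = g * inc hx * g⁻¹ from Subtype.ext (by simp [inc]), map_mul, map_mul, map_inv, ← hs,
    hxv]
  exact PSUSix.conj_T hF s hv.2

theorem exists_theta (k : Kp d₁ d₂) : ∃ s ∈ Fixv S.v₀, proj s = S.C1.ψ (S.toChart k) := by
  obtain ⟨s, hs⟩ := proj_surjective (S.C1.ψ (S.toChart k))
  obtain ⟨r, hr, hrs⟩ := exists_fix_lift hF (S.C1.isPt S.h2).1 (S.C1.isPt S.h2).2 (s := s) (by
    have h : Commute (S.toChart k) (inc S.h2) := Subtype.ext (mem_Kp.1 k.2).2.eq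
    have := h.map S.C1.ψ
    rwa [← hs, S.C1.ψ_inc] at this)
  exact ⟨r, hr, hrs.trans hs⟩

/-- The lift fixing the point of `d₂`. -/
noncomputable def theta : Kp d₁ d₂ →* Fixv S.v₀ :=
  MonoidHom.mk' (fun k => ⟨(S.exists_theta k).choose, (S.exists_theta k).choose_spec.1⟩) fun a b => by
    refine Subtype.ext (proj_injOn_fix hF (S.C1.isPt S.h2).1 (S.exists_theta (a * b)).choose_spec.1
      (mul_mem (S.exists_theta a).choose_spec.1 (S.exists_theta b).choose_spec.1) ?_)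
    rw [(S.exists_theta (a * b)).choose_spec.2, map_mul, map_mul]
    exact (congrArg₂ (· * ·) (S.exists_theta a).choose_spec.2.symm
      (S.exists_theta b).choose_spec.2.symm).trans (map_mul proj _ _).symm

theorem proj_theta (k : Kp d₁ d₂) : proj (S.theta k : SUType 6 F 2) = S.C1.ψ (S.toChart k) :=
  (S.exists_theta k).choose_spec.2

theorem theta_surjective : Function.Surjective S.theta := by
  intro s
  obtain ⟨z, hz⟩ := S.C1.surj (proj (s : SUType 6 F 2))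
  have hz1 : Commute (z : G) d₁ := commute_of_mem_closure z.2
  have hx' := S.conj_nb hz1 S.h2
  have h := S.ψ_conj (g := z) hz.symm S.h2 hx' (S.C1.isPt S.h2) (S.C1.ψ_inc S.h2)
  rw [mem_Fixv.1 s.2, ← S.C1.ψ_inc S.h2] at h
  have heq := S.C1.eq_of_ψ_eq hF S.hX.toCtx hx' S.h2 S.h1 h
  let k : Kp d₁ d₂ := ⟨z, mem_Kp.2 ⟨hz1, mul_inv_eq_iff_eq_mul.1 heq⟩⟩
  refine ⟨k, Subtype.ext (proj_injOn_fix hF (S.C1.isPt S.h2).1 (S.theta k).2 s.2 ?_)⟩
  rw [S.proj_theta, ← hz]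
  rfl

theorem ψ_self : S.C1.ψ ⟨d₁, S.self d₁ S.h1⟩ = 1 := by
  set U := S.C1.ψ ⟨d₁, S.self d₁ S.h1⟩ with hU
  have hcen : U ∈ Subgroup.center (Cfsg.PSU 6 F 2) := Subgroup.mem_center_iff.2 fun x => by
    obtain ⟨z, rfl⟩ := S.C1.surj x
    rw [hU, ← map_mul, ← map_mul]
    exact congrArg _ (Subtype.ext (commute_of_mem_closure z.2).eq)
  haveI := Classical.isSimpleGroup_PSU (card' hF) 4 (by norm_num) (by norm_num)
  rcases Subgroup.Normal.eq_bot_or_eq_top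
    (inferInstance : (Subgroup.center (Cfsg.PSU 6 F 2)).Normal) with h | h
  · rw [h] at hcen
    exact Subgroup.mem_bot.1 hcen
  · exfalso
    obtain ⟨e, f', hfr⟩ := exists_frame_any (F := F) hF
    have h0 := (PSUSix.commute_T hF (hfr.ne_zero_left hF 0) (hfr.ee 0 0) (hfr.ne_zero_right hF 0) (hfr.ff 0 0)).1
      (Subgroup.mem_center_iff.1 (h ▸ Subgroup.mem_top _) _)
    rw [hfr.fe hF, if_pos rfl] at h0
    exact one_ne_zero h0

/-- `d₁` in the joint centraliser. -/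
def el₁ : Kp d₁ d₂ := ⟨d₁, mem_Kp.2 ⟨Commute.refl _, S.h2.2.2⟩⟩

/-- `d₂` in the joint centraliser. -/
def el₂ : Kp d₁ d₂ := ⟨d₂, mem_Kp.2 ⟨S.h2.2.2.symm, Commute.refl _⟩⟩

theorem theta_el₁ : S.theta S.el₁ = 1 := by
  refine Subtype.ext (proj_injOn_fix hF (S.C1.isPt S.h2).1 (S.theta S.el₁).2 (one_mem _) ?_)
  rw [S.proj_theta, OneMemClass.coe_one, map_one]
  exact S.ψ_self

theorem theta_eq_one {k : Kp d₁ d₂} (h : S.theta k = 1) : (k : G) = 1 ∨ (k : G) = d₁ := by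
  refine S.C1.ker (S.toChart k) ?_
  rw [← S.proj_theta, h, OneMemClass.coe_one, map_one]

theorem theta_ker : S.theta.ker = Subgroup.zpowers S.el₁ := by
  refine le_antisymm (fun k hk => ?_) ((Subgroup.zpowers_le).2 S.theta_el₁)
  rcases S.theta_eq_one hk with h | h
  · rw [show k = 1 from Subtype.ext h]; exact one_mem _
  · rw [show k = S.el₁ from Subtype.ext h]; exact Subgroup.mem_zpowers _

theorem natCard_Kp : Nat.card (Kp d₁ d₂) = 2 * (512 * 25920) := by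
  rw [← S.theta.ker.card_mul_index, Subgroup.index_ker, MonoidHom.range_eq_top.2 S.theta_surjective,
    Subgroup.card_top, S.co.natCard_fix, S.theta_ker, Nat.card_zpowers]
  congr 1
  rw [orderOf_eq_prime_iff]
  exact ⟨Subtype.ext (by simp [el₁, pow_two, mul_self S.set S.h1]),
    fun h => ne_one S.set S.h1 (congrArg Subtype.val h)⟩

/-- The identification of the Levi group with `PSU₄(2)`. -/
noncomputable def four : suV (card' hF) 4 ≃* Cfsg.PSU 4 F 2 := (exists_psuEquiv hF).some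

/-- The quotient map onto `PSU₄(2)`. -/
noncomputable def phi : Kp d₁ d₂ →* Cfsg.PSU 4 F 2 :=
  S.four.toMonoidHom.comp (S.co.lev.comp S.theta)

theorem phi_surjective : Function.Surjective S.phi :=
  S.four.surjective.comp (S.co.lev_surjective.comp S.theta_surjective)

theorem phi_eq_iff {k l : Kp d₁ d₂} : S.phi k = S.phi l ↔ S.co.lev (S.theta k) = S.co.lev (S.theta l) :=
  S.four.injective.eq_iff

theorem phi_eq_one {k : Kp d₁ d₂} : S.phi k = 1 ↔ S.co.lev (S.theta k) = 1 := by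
  rw [← map_one S.phi, S.phi_eq_iff, map_one, map_one]

/-- The kernel, in `G`. -/
noncomputable def Op : Subgroup G := S.phi.ker.map (Kp d₁ d₂).subtype

theorem mem_Op {g : G} : g ∈ S.Op ↔ ∃ hg : g ∈ Kp d₁ d₂, S.phi ⟨g, hg⟩ = 1 := by
  constructor
  · rintro ⟨k, hk, rfl⟩
    exact ⟨k.2, hk⟩
  · rintro ⟨hg, h⟩
    exact ⟨⟨g, hg⟩, h, rfl⟩

theorem Op_le : S.Op ≤ Kp d₁ d₂ := Subgroup.map_subtype_le _

theorem natCard_Op : Nat.card S.Op = 2 ^ 10 := by
  have h := S.phi.ker.card_mul_index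
  rw [Subgroup.index_ker, MonoidHom.range_eq_top.2 S.phi_surjective, Subgroup.card_top,
    natCard_PSU_four hF, S.natCard_Kp] at h
  rw [Op, Subgroup.card_map_of_injective (Kp d₁ d₂).subtype_injective]
  norm_num at h ⊢
  omega

theorem isPGroup_Op : IsPGroup 2 S.Op := IsPGroup.of_card S.natCard_Op

/-! ### Members by coordinates -/

/-- The member with given split coordinates. -/
noncomputable def mb (p : E6 F) : G :=
  @dite _ (IsPt (S.co.e p)) (_root_.Classical.propDecidable _) (fun h => (S.C1.onto _ h).choose) (fun _ => 1)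

theorem isPt_iff {p : E6 F} : IsPt (S.co.e p) ↔ p ≠ 0 ∧ ext6 hF p p = 0 := by
  rw [IsPt, ne_eq, map_eq_zero_iff _ S.co.e.injective, S.co.iso]

theorem mb_spec {p : E6 F} (hp : p ≠ 0) (hpp : ext6 hF p p = 0) :
    ∃ hx : S.mb p ∈ nb D d₁, S.C1.ψ (inc hx) = PSUSix.tv (S.co.e p) := by
  have h := S.isPt_iff.2 ⟨hp, hpp⟩
  rw [mb, dif_pos h]
  exact (S.C1.onto _ h).choose_spec

theorem mb_eq {p : E6 F} (hp : p ≠ 0) (hpp : ext6 hF p p = 0) {x : G} (hx : x ∈ nb D d₁)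
    (h : S.C1.ψ (inc hx) = PSUSix.tv (S.co.e p)) : x = S.mb p := by
  obtain ⟨hy, e⟩ := S.mb_spec hp hpp
  exact S.C1.eq_of_ψ_eq hF S.hX.toCtx hx hy S.h1 (h.trans e.symm)

theorem mb_base : S.mb (base6 F) = d₂ := by
  refine (S.mb_eq ?_ ?_ S.h2 ?_).symm
  · exact fun h => one_ne_zero (Prod.ext_iff.1 h).1
  · simp [ext6, uExt, (hW).zero_left]
  · rw [S.co.base, S.C1.ψ_inc]

theorem mb_eq_iff {p p' : E6 F} (hp : p ≠ 0) (hpp : ext6 hF p p = 0) (hp' : p' ≠ 0)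
    (hpp' : ext6 hF p' p' = 0) : S.mb p = S.mb p' ↔ ∃ a : F, a ≠ 0 ∧ p = a • p' := by
  obtain ⟨hx, ex⟩ := S.mb_spec hp hpp
  obtain ⟨hy, ey⟩ := S.mb_spec hp' hpp'
  have hP := S.isPt_iff.2 ⟨hp, hpp⟩
  have hP' := S.isPt_iff.2 ⟨hp', hpp'⟩
  constructor
  · intro e
    have : PSUSix.tv (S.co.e p) = PSUSix.tv (S.co.e p') := by
      rw [← ex, ← ey]
      congr 1
      exact Subtype.ext e
    obtain ⟨a, ha⟩ := PSUSix.T_line hF hP.1 hP.2 hP'.2 this
    refine ⟨a, fun e0 => hP.1 (by rw [ha, e0, zero_smul]), S.co.e.injective ?_⟩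
    rw [ha, map_smul]
  · rintro ⟨a, ha, rfl⟩
    refine S.mb_eq hp' hpp' hx (ex.trans ?_)
    rw [map_smul]
    exact PSUSix.T_smul hF hP'.2 ha

theorem pt_line {p : E6 F} (hp : p ≠ 0) (hpp : ext6 hF p p = 0) (hx : S.mb p ∈ nb D d₁) :
    ∃ a : F, a ≠ 0 ∧ S.C1.pt hx = a • S.co.e p := by
  obtain ⟨hy, ey⟩ := S.mb_spec hp hpp
  rw [S.C1.ψ_inc hy] at ey
  obtain ⟨a, ha⟩ := PSUSix.T_line hF (S.C1.isPt hy).1 (S.C1.isPt hy).2 (S.isPt_iff.2 ⟨hp, hpp⟩).2 ey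
  exact ⟨a, fun e0 => (S.C1.isPt hy).1 (by rw [ha, e0, zero_smul]), ha⟩

theorem commute_mb {p p' : E6 F} (hp : p ≠ 0) (hpp : ext6 hF p p = 0) (hp' : p' ≠ 0)
    (hpp' : ext6 hF p' p' = 0) : Commute (S.mb p) (S.mb p') ↔ ext6 hF p p' = 0 := by
  obtain ⟨hx, -⟩ := S.mb_spec hp hpp
  obtain ⟨hy, -⟩ := S.mb_spec hp' hpp'
  obtain ⟨a, ha, ea⟩ := S.pt_line hp hpp hx
  obtain ⟨b, hb, eb⟩ := S.pt_line hp' hpp' hy
  rw [S.C1.commute_iff hF S.hX.toCtx hx hy S.h1, ea, eb, (hermSpace_std (card' hF) 6).smul_left,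
    (hermSpace_std (card' hF) 6).smul_right, S.co.iso]
  simp [ha, hb]

omit S in
theorem ext6_base {hF' : Fintype.card F = 4} (p : E6 F) : ext6 hF' p (base6 F) = p.2.1 := by
  simp [ext6, uExt, (hermSpace_std (card' hF') 4).zero_right]

theorem mb_mem_Kp {p : E6 F} (hp : p ≠ 0) (hpp : ext6 hF p p = 0) (h21 : p.2.1 = 0) :
    S.mb p ∈ Kp d₁ d₂ := by
  obtain ⟨hx, -⟩ := S.mb_spec hp hpp
  refine mem_Kp.2 ⟨hx.2.2.symm, ?_⟩
  have := (S.commute_mb hp hpp (p' := base6 F) (fun h => one_ne_zero (Prod.ext_iff.1 h).1)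
    (by simp [ext6, uExt, (hW).zero_left])).2 (by rw [ext6_base, h21])
  rwa [S.mb_base] at this

theorem exists_mb {x : G} (hx : x ∈ nb D d₁) (hc : Commute x d₂) :
    ∃ p : E6 F, p ≠ 0 ∧ ext6 hF p p = 0 ∧ p.2.1 = 0 ∧ x = S.mb p := by
  set p := S.co.e.symm (S.C1.pt hx) with hp'
  have he : S.co.e p = S.C1.pt hx := S.co.e.apply_symm_apply _
  have hP : IsPt (S.co.e p) := he ▸ S.C1.isPt hx
  obtain ⟨hp, hpp⟩ := S.isPt_iff.1 hP
  have hxe : x = S.mb p := S.mb_eq hp hpp hx (by rw [he, S.C1.ψ_inc])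
  refine ⟨p, hp, hpp, ?_, hxe⟩
  have hc' : Commute (S.mb p) (S.mb (base6 F)) := by rw [S.mb_base, ← hxe]; exact hc
  rwa [S.commute_mb hp hpp (fun h => one_ne_zero (Prod.ext_iff.1 h).1)
    (by simp [ext6, uExt, (hW).zero_left]), ext6_base] at hc'

theorem conj_mb (k : Kp d₁ d₂) {p : E6 F} (hp : p ≠ 0) (hpp : ext6 hF p p = 0) :
    (k : G) * S.mb p * (k : G)⁻¹ = S.mb (S.co.mat (S.theta k) p) := by
  obtain ⟨hx, ex⟩ := S.mb_spec hp hpp
  have hx' := S.conj_nb (mem_Kp.1 k.2).1 hx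
  have hP := S.isPt_iff.2 ⟨hp, hpp⟩
  have h := S.ψ_conj (g := S.toChart k) (S.proj_theta k) hx hx' hP ex
  rw [← S.co.e_mat] at h
  obtain ⟨h1, h2⟩ := S.isPt_iff.1 (show IsPt (S.co.e (S.co.mat (S.theta k) p)) by
    rw [S.co.e_mat]
    exact ⟨act_ne_zero _ hP.1, (act_form _ _ _).trans hP.2⟩)
  exact S.mb_eq h1 h2 hx' h

theorem theta_mb {p : E6 F} (hp : p ≠ 0) (hpp : ext6 hF p p = 0) (h21 : p.2.1 = 0) (x : E6 F) :
    S.co.mat (S.theta ⟨S.mb p, S.mb_mem_Kp hp hpp h21⟩) x = x + ext6 hF x p • p := by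
  obtain ⟨hx, ex⟩ := S.mb_spec hp hpp
  have hP := S.isPt_iff.2 ⟨hp, hpp⟩
  have hmem : eich (S.co.e p) 0 (1 : F) ∈ Fixv S.v₀ := by
    refine @Coord.tt_mem F _ _ hF _ _ hP.2 ?_
    rw [← Classical.HermSpace.symm (hermSpace_std (card' hF) 6), show S.v₀ = S.co.e (base6 F) from
      S.co.base.symm, S.co.iso, ext6_base, h21, map_zero]
  have : (S.theta ⟨S.mb p, S.mb_mem_Kp hp hpp h21⟩ : SUType 6 F 2) = eich (S.co.e p) 0 (1 : F) := by
    refine proj_injOn_fix hF (S.C1.isPt S.h2).1 (S.theta _).2 hmem ?_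
    rw [S.proj_theta]
    exact ex
  rw [this, S.co.mat_tt hpp]

theorem phi_mb {p : E6 F} (hp : p ≠ 0) (hpp : ext6 hF p p = 0) (h21 : p.2.1 = 0) (v : Fin 4 → F) :
    (S.co.lev (S.theta ⟨S.mb p, S.mb_mem_Kp hp hpp h21⟩) : (Fin 4 → F) ≃ₗ[F] (Fin 4 → F)) v =
      v + β v p.2.2 • p.2.2 := by
  rw [S.co.lev_apply, S.theta_mb hp hpp h21]
  simp [ext6, uExt, h21]

/-! ### The radical -/

theorem rad_data {k : Kp d₁ d₂} (h : S.phi k = 1) :
    ∃ (w : Fin 4 → F) (c : F) (hc : c + σ c + β w w = 0), S.co.mat (S.theta k) = uT hW w c hc :=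
  S.co.rad_spec (S.phi_eq_one.1 h)

theorem exists_rad {w : Fin 4 → F} {c : F} (hc : c + σ c + β w w = 0) :
    ∃ k : Kp d₁ d₂, S.phi k = 1 ∧ S.co.mat (S.theta k) = uT hW w c hc := by
  obtain ⟨s, hs, hm⟩ := S.co.exists_rad hc
  obtain ⟨k, rfl⟩ := S.theta_surjective s
  exact ⟨k, S.phi_eq_one.2 hs, hm⟩

theorem conj_mb_rad {k : Kp d₁ d₂} {w' : Fin 4 → F} {c : F} {hc : c + σ c + β w' w' = 0}
    (hk : S.co.mat (S.theta k) = uT hW w' c hc) (a : F) {w : Fin 4 → F} (hw : w ≠ 0) (hww : β w w = 0) :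
    (k : G) * S.mb (a, 0, w) * (k : G)⁻¹ = S.mb (a - β w w', 0, w) := by
  rw [S.conj_mb k (p := (a, 0, w)) (fun h => hw (Prod.ext_iff.1 (Prod.ext_iff.1 h).2).2)
    (by simp [ext6, uExt, hww]), hk, uT_apply]
  simp

theorem mem_four {k : Kp d₁ d₂} {c : F} {hc : c + σ c + β (0 : Fin 4 → F) 0 = 0}
    (hk : S.co.mat (S.theta k) = uT hW 0 c hc) :
    (k : G) = 1 ∨ (k : G) = d₁ ∨ (k : G) = d₂ ∨ (k : G) = d₁ * d₂ := by
  have hc01 : c = 0 ∨ c = 1 := by
    have e := hc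
    rw [(hW).zero_left, add_zero, Forms.qPowHom_apply] at e
    have : c * (1 + c) = 0 := by linear_combination e
    rcases mul_eq_zero.1 this with e1 | e1
    · exact Or.inl e1
    · exact Or.inr (by linear_combination e1 - PSUSix.add_self' hF (1 : F))
  rcases hc01 with rfl | rfl
  · have : S.theta k = 1 := Subtype.ext (S.co.mat_injective (by
      rw [hk, Fusion.SUData.uT_zero, OneMemClass.coe_one, map_one]))
    rcases S.theta_eq_one this with h | h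
    · exact Or.inl h
    · exact Or.inr (Or.inl h)
  · have hb : base6 F ≠ 0 := fun h => one_ne_zero (Prod.ext_iff.1 h).1
    have hbb : ext6 hF (base6 F) (base6 F) = 0 := by simp [ext6, uExt, (hW).zero_left]
    have he : S.theta k = S.theta S.el₂ := Subtype.ext (S.co.mat_injective (LinearEquiv.ext fun x => by
      have e2 : S.el₂ = ⟨S.mb (base6 F), S.mb_mem_Kp hb hbb rfl⟩ := Subtype.ext S.mb_base.symm
      rw [hk, e2, S.theta_mb hb hbb rfl, ext6_base, uT_apply]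
      simp [Prod.ext_iff, (hW).zero_right]))
    have h1 : S.theta (k * S.el₂⁻¹) = 1 := by rw [map_mul, map_inv, he, mul_inv_cancel]
    rcases S.theta_eq_one h1 with h | h
    · rw [Subgroup.coe_mul, Subgroup.coe_inv, mul_inv_eq_one] at h
      exact Or.inr (Or.inr (Or.inl h))
    · rw [Subgroup.coe_mul, Subgroup.coe_inv, mul_inv_eq_iff_eq_mul] at h
      exact Or.inr (Or.inr (Or.inr h))

/-- The `w`-component of an element of the radical. -/
noncomputable def wc (k : Kp d₁ d₂) : Fin 4 → F := (S.co.mat (S.theta k) (0, 1, 0)).2.2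

theorem wc_spec {k : Kp d₁ d₂} {w : Fin 4 → F} {c : F} {hc : c + σ c + β w w = 0}
    (hk : S.co.mat (S.theta k) = uT hW w c hc) : S.wc k = w := by
  rw [wc, hk, uT_apply]
  simp

theorem wc_mul {k l : Kp d₁ d₂} (hk : S.phi k = 1) (hl : S.phi l = 1) : S.wc (k * l) = S.wc k + S.wc l := by
  obtain ⟨w, c, hc, e⟩ := S.rad_data hk
  obtain ⟨w', c', hc', e'⟩ := S.rad_data hl
  obtain ⟨hc'', e''⟩ := Fusion.SUData.uT_mul hW w w' c c' hc hc'
  rw [S.wc_spec e, S.wc_spec e', S.wc_spec (k := k * l) (hc := hc'') (by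
    rw [map_mul, Subgroup.coe_mul, map_mul, e, e', e''])]

theorem wc_one : S.wc 1 = 0 := by
  rw [wc, map_one, OneMemClass.coe_one, map_one]
  rfl

theorem wc_inv {k : Kp d₁ d₂} (hk : S.phi k = 1) : S.wc k⁻¹ = -S.wc k := by
  refine eq_neg_of_add_eq_zero_left ?_
  rw [← S.wc_mul (by rw [map_inv, hk, inv_one]) hk, inv_mul_cancel, S.wc_one]

theorem mem_four_of_wc {k : Kp d₁ d₂} (hk : S.phi k = 1) (h : S.wc k = 0) :
    (k : G) = 1 ∨ (k : G) = d₁ ∨ (k : G) = d₂ ∨ (k : G) = d₁ * d₂ := by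
  obtain ⟨w, c, hc, e⟩ := S.rad_data hk
  obtain rfl : w = 0 := (S.wc_spec e).symm.trans h
  exact S.mem_four e

end Setup

end Cfsg.Agent.Lib.FischerPair
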