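import Cfsg.Agent.Lib.FischerType.OmegaSix
import Cfsg.Agent.Lib.Forms.Parity
import Cfsg.Agent.Lib.Dickson.StdQuad
import Cfsg.Agent.Lib.PSUAut.Structure

/-!
# `O⁻₆(2)` is the automorphism group of `PSU₄(2)`
-/

set_option autoImplicit false
set_option linter.style.haveILetI false

namespace Cfsg.Agent.Lib.FischerPair

open Cfsg

theorem natCard_mulAut_four {F : Type} [Field F] [Fintype F] (hF : Fintype.card F = 4) :
    Nat.card (MulAut (Cfsg.PSU 4 F 2)) = 51840 := by
  have hF' : Fintype.card F = 2 ^ 2 := by rw [hF]; rfl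
  haveI : Fact (Nat.Prime 2) := ⟨Nat.prime_two⟩
  haveI : CharP F 2 := by
    obtain ⟨p, hp⟩ := CharP.exists F
    obtain ⟨k, hprime, hk⟩ := FiniteField.card F p
    have h2 : p ∣ 4 := by rw [← hF, hk]; exact dvd_pow_self _ k.ne_zero
    have : p = 2 := (Nat.prime_dvd_prime_iff_eq hprime Nat.prime_two).mp
      (hprime.dvd_of_dvd_pow (show p ∣ 2 ^ 2 by norm_num; exact h2))
    exact this ▸ hp
  rw [PSUAut.natCard_mulAut (p := 2) hF' (by norm_num) (by norm_num) (f := 1) (pow_one 2).symm]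
  have h := Classical.natCard_PSU hF' 4 (by norm_num)
  simp [Finset.prod_range_succ, Nat.even_iff] at h
  rw [show Nat.gcd 4 (2 + 1) = 1 by decide]
  omega

/-- The quadratic form. -/
noncomputable abbrev qm : QuadraticForm (ZMod 2) ((Fin 2 ⊕ Fin 2) ⊕ Fin 2 → ZMod 2) :=
  StdForms.minusQ (ZMod 2) 2 1 1

set_option synthInstance.maxHeartbeats 400000 in
theorem nonsingular_span : ∀ v : (Fin 2 ⊕ Fin 2) ⊕ Fin 2 → ZMod 2,
    Cfsg.quadFormMinus 2 (ZMod 2) 1 1 v ≠ 0 ∨ ∃ a, Cfsg.quadFormMinus 2 (ZMod 2) 1 1 a ≠ 0 ∧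
      Cfsg.quadFormMinus 2 (ZMod 2) 1 1 (v + a) ≠ 0 := by
  decide +kernel

/-- The matrix of an isometry. -/
abbrev gm (g : Cfsg.isometryGroup (ZMod 2) ⇑qm) :
    Matrix ((Fin 2 ⊕ Fin 2) ⊕ Fin 2) ((Fin 2 ⊕ Fin 2) ⊕ Fin 2) (ZMod 2) :=
  ((g : Matrix.GeneralLinearGroup ((Fin 2 ⊕ Fin 2) ⊕ Fin 2) (ZMod 2)) : Matrix _ _ (ZMod 2))

theorem isometryGroup_center : Subgroup.center (Cfsg.isometryGroup (ZMod 2) ⇑qm) = ⊥ := by
  have hQ := StdForms.minusQ_nondegenerate (F := ZMod 2) FischerType.aniso_two 2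
  rw [eq_bot_iff]
  intro g hg
  have hfix : ∀ v, qm v ≠ 0 → (gm g).mulVec v = v := by
    intro v hv
    obtain ⟨x, hx⟩ : ∃ x, QuadraticMap.polar qm v x ≠ 0 := by
      by_contra! hne
      have hv0 : v = 0 := hQ.1 v fun y => hne y
      exact hv (by rw [hv0, map_zero])
    have hcomm := congrArg (fun A : Cfsg.isometryGroup (ZMod 2) ⇑qm =>
      (gm A).mulVec x)
      (Subgroup.mem_center_iff.1 hg (Forms.reflElem hv))
    simp only [gm, Subgroup.coe_mul, Units.val_mul, ← Matrix.mulVec_mulVec, Forms.reflElem_mulVec,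
      Matrix.mulVec_sub, Matrix.mulVec_smul] at hcomm
    have h1 : ∀ a : ZMod 2, a ≠ 0 → a = 1 := by decide
    rw [sub_right_inj, h1 _ (mul_ne_zero (inv_ne_zero hv) hx), one_smul] at hcomm
    by_cases h0 : (qm v)⁻¹ * QuadraticMap.polar qm v
        ((gm g).mulVec x) = 0
    · rw [h0, zero_smul] at hcomm
      have hv0 : v = 0 := by
        have := congrArg (gm g⁻¹).mulVec hcomm.symm
        simp only [gm, Matrix.mulVec_mulVec, ← Units.val_mul, ← Subgroup.coe_mul, inv_mul_cancel] at this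
        simpa using this
      exact absurd (by rw [hv0, map_zero]) hv
    · rw [h1 _ h0, one_smul] at hcomm
      exact hcomm.symm
  refine Subgroup.mem_bot.2 (Forms.isoToEquiv_injective _ (LinearEquiv.ext fun v => ?_))
  rw [Forms.isoToEquiv_apply, map_one, LinearEquiv.coe_one, id_eq]
  rcases nonsingular_span v with h | ⟨a, ha, hva⟩
  · exact hfix v (by rwa [StdForms.coe_minusQ])
  · have h1 := hfix a (by rwa [StdForms.coe_minusQ])
    have h2 := hfix (v + a) (by rwa [StdForms.coe_minusQ])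
    rw [Matrix.mulVec_add, h1] at h2
    exact add_right_cancel h2

theorem exists_equiv_mulAut {F : Type} [Field F] [Fintype F] (hF : Fintype.card F = 4) :
    Nonempty (Cfsg.isometryGroup (ZMod 2) (Cfsg.quadFormMinus 2 (ZMod 2) 1 1) ≃* MulAut (Cfsg.PSU 4 F 2)) := by
  have hF' : Fintype.card F = 2 ^ 2 := by rw [hF]; rfl
  have hP : Nat.card (Cfsg.PSU 4 F 2) = 25920 := by
    have h := Classical.natCard_PSU hF' 4 (by norm_num)
    simp [Finset.prod_range_succ, Nat.even_iff] at h
    omega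
  classical
  obtain ⟨e⟩ := Classical.LowRank.nonempty_POmega_minus_six (K := F) (q := 2) (ZMod.card 2) hF' 1 1
    FischerType.aniso_two
  rw [← StdForms.coe_minusQ] at e ⊢
  haveI : CharP (ZMod 2) 2 := ZMod.charP 2
  set Γ := Cfsg.isometryGroup (ZMod 2) ⇑qm
  set Ω := Cfsg.Omega (ZMod 2) ⇑qm
  have hidx : Ω.index = 2 := Forms.index_Omega_char_two
    (StdForms.minusQ_nondegenerate (F := ZMod 2) FischerType.aniso_two 2) (Or.inr (by simp)) (by simp)
  have hcΓ : Nat.card Γ = 51840 := by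
    have := FischerType.card_Qm
    rw [← StdForms.coe_minusQ] at this
    exact this
  have hcΩ : Nat.card Ω = 25920 := by
    have := Ω.card_mul_index
    rw [hidx, hcΓ] at this
    omega
  have hZ : Subgroup.center Ω = ⊥ := by
    refine Subgroup.card_eq_one.1 ?_
    have h := Subgroup.card_eq_card_quotient_mul_card_subgroup (Subgroup.center Ω)
    rw [show Nat.card (↥Ω ⧸ Subgroup.center Ω) = 25920 from (Nat.card_congr e.toEquiv).trans hP, hcΩ] at h
    omega
  let e' : Ω ≃* Cfsg.PSU 4 F 2 :=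
    ((QuotientGroup.quotientMulEquivOfEq hZ).trans QuotientGroup.quotientBot).symm.trans e
  let f : Γ →* MulAut (Cfsg.PSU 4 F 2) := (MulAut.congr e').toMonoidHom.comp MulAut.conjNormal
  haveI : Finite (MulAut (Cfsg.PSU 4 F 2)) := Finite.of_injective (fun a => a.toEquiv) (fun a b h =>
    MulEquiv.ext fun x => Equiv.congr_fun h x)
  have hinj : Function.Injective f := by
    refine (MulAut.congr e').injective.comp ((injective_iff_map_eq_one _).2 fun g hg => ?_)
    have hcomm : ∀ x : Ω, g * (x : Γ) = x * g := fun x => by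
      have := congrArg Subtype.val (MulEquiv.congr_fun hg x)
      rw [MulAut.conjNormal_apply, MulAut.one_apply, mul_inv_eq_iff_eq_mul] at this
      exact this
    -- the centraliser of `Ω` is a normal subgroup meeting it trivially
    set N := Subgroup.centralizer (Ω : Set Γ) with hN
    have hgN : g ∈ N := Subgroup.mem_centralizer_iff.2 fun x hx => (hcomm ⟨x, hx⟩).symm
    haveI : N.Normal := Subgroup.normal_centralizer
    have hdisj : N ⊓ Ω = ⊥ := by
      rw [eq_bot_iff]
      rintro x ⟨hxN, hxΩ⟩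
      have : (⟨x, hxΩ⟩ : Ω) ∈ Subgroup.center Ω := Subgroup.mem_center_iff.2 fun y =>
        Subtype.ext (Subgroup.mem_centralizer_iff.1 hxN y y.2)
      rw [hZ, Subgroup.mem_bot] at this
      exact Subgroup.mem_bot.2 (congrArg Subtype.val this)
    have hcen : g ∈ Subgroup.center Γ := Subgroup.mem_center_iff.2 fun y => by
      -- the commutator lies in `N ⊓ Ω`
      have h1 : y * g * y⁻¹ * g⁻¹ ∈ N ⊓ Ω := ⟨N.mul_mem (Subgroup.Normal.conj_mem inferInstance g hgN y) (N.inv_mem hgN),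
        Subgroup.commutator_mem_commutator (Subgroup.mem_top y) (Subgroup.mem_top g)⟩
      rw [hdisj, Subgroup.mem_bot, mul_inv_eq_one, mul_inv_eq_iff_eq_mul] at h1
      exact h1
    rw [isometryGroup_center, Subgroup.mem_bot] at hcen
    exact hcen
  exact ⟨MulEquiv.ofBijective f ((Nat.bijective_iff_injective_and_card f).2
    ⟨hinj, hcΓ.trans (natCard_mulAut_four hF).symm⟩)⟩

end Cfsg.Agent.Lib.FischerPair
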