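import Cfsg.Agent.Lib.FischerPair.Outer
import Cfsg.Agent.Lib.FischerPair.OrthSix

/-!
# The structure of the centraliser of a product of two commuting transpositions
-/

set_option autoImplicit false
set_option linter.style.haveILetI false
set_option linter.unusedSectionVars false

namespace Cfsg.Agent.Lib.FischerPair

open Cfsg Cfsg.Agent.Lib.ThreeTransp Cfsg.Agent.Lib.M22Struct66
open Cfsg.Agent.Lib.Classical (uT uInd uT_apply uInd_apply uExt hermSpace_std)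
open Cfsg.Agent.Lib.ThreeTransp.PSUSix (card' IsPt)

variable {G : Type*} [Group G] {D : Set G}

/-- The elements of the four-group of the pair. -/
def Four (d₁ d₂ g : G) : Prop := g = 1 ∨ g = d₁ ∨ g = d₂ ∨ g = d₁ * d₂

/-- The elements of the group of the product. -/
def Two (d₁ d₂ g : G) : Prop := g = 1 ∨ g = d₁ * d₂

namespace Setup

variable {F : Type} [Field F] [Fintype F] {d₁ d₂ : G}
variable (S : Setup D F d₁ d₂)

local notation "hF" => S.hX.card
local notation "β" => Cfsg.hermForm 4 F 2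
local notation "σ" => Forms.qPowHom (card' S.hX.card)
local notation "hW" => hermSpace_std (card' S.hX.card) 4

include S

theorem prod_ne_one : d₁ * d₂ ≠ 1 := fun h =>
  S.h2.2.1 ((mul_eq_one_iff_inv_eq.1 h).symm.trans (inv_eq S.set S.h1))

theorem prod_sq : (d₁ * d₂) * (d₁ * d₂) = 1 := by
  rw [S.h2.2.2.symm.mul_mul_mul_comm, mul_self S.set S.h1, mul_self S.set S.h2.1, one_mul]

theorem four_iff {g : G} : g ∈ Subgroup.closure ({d₁, d₂} : Set G) ↔ Four d₁ d₂ g := by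
  constructor
  · intro hg
    have e1 := mul_self S.set S.h1
    have e2 := mul_self S.set S.h2.1
    have e21 : d₂ * d₁ = d₁ * d₂ := S.h2.2.2.symm.eq
    have e212 : d₂ * (d₁ * d₂) = d₁ := by rw [← mul_assoc, e21, mul_assoc, e2, mul_one]
    induction hg using Subgroup.closure_induction with
    | mem x hx =>
      rcases hx with rfl | rfl
      exacts [Or.inr (Or.inl rfl), Or.inr (Or.inr (Or.inl rfl))]
    | one => exact Or.inl rfl
    | mul x y _ _ hx hy =>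
      rcases hx with rfl | rfl | rfl | rfl <;> rcases hy with rfl | rfl | rfl | rfl <;>
        simp [Four, e1, e2, e21, e212, mul_assoc, mul_self_assoc S.set S.h1]
    | inv x _ hx =>
      rcases hx with rfl | rfl | rfl | rfl
      · exact Or.inl inv_one
      · exact Or.inr (Or.inl (inv_eq S.set S.h1))
      · exact Or.inr (Or.inr (Or.inl (inv_eq S.set S.h2.1)))
      · exact Or.inr (Or.inr (Or.inr (inv_eq_of_mul_eq_one_right S.prod_sq)))
  · rintro (rfl | rfl | rfl | rfl)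
    · exact one_mem _
    · exact Subgroup.subset_closure (by simp)
    · exact Subgroup.subset_closure (by simp)
    · exact mul_mem (Subgroup.subset_closure (by simp)) (Subgroup.subset_closure (by simp))

theorem four_central {g : G} (hg : Four d₁ d₂ g) (k : Kp d₁ d₂) : Commute (k : G) g := by
  rcases hg with rfl | rfl | rfl | rfl
  exacts [Commute.one_right _, (mem_Kp.1 k.2).1, (mem_Kp.1 k.2).2, (mem_Kp.1 k.2).1.mul_right (mem_Kp.1 k.2).2]

theorem phi_el₁ : S.phi S.el₁ = 1 := by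
  rw [S.phi_eq_one, S.theta_el₁, map_one]

theorem base_ne : base6 F ≠ 0 := fun h => one_ne_zero (Prod.ext_iff.1 h).1

theorem base_iso : ext6 hF (base6 F) (base6 F) = 0 := by simp [ext6, uExt, (hW).zero_left]

theorem phi_el₂ : S.phi S.el₂ = 1 := by
  rw [S.phi_eq_one]
  refine Subtype.ext (LinearEquiv.ext fun v => ?_)
  rw [show S.el₂ = ⟨S.mb (base6 F), S.mb_mem_Kp S.base_ne S.base_iso rfl⟩ from Subtype.ext S.mb_base.symm,
    S.phi_mb S.base_ne S.base_iso rfl]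
  simp [(hW).zero_right]

theorem four_mem_Op {g : G} (hg : Four d₁ d₂ g) : g ∈ S.Op := by
  have h1 : d₁ ∈ S.Op := S.mem_Op.2 ⟨S.el₁.2, S.phi_el₁⟩
  have h2 : d₂ ∈ S.Op := S.mem_Op.2 ⟨S.el₂.2, S.phi_el₂⟩
  rcases hg with rfl | rfl | rfl | rfl
  exacts [one_mem _, h1, h2, mul_mem h1 h2]

/-! ### Conjugation -/

/-- Conjugation by an element of the centraliser of the product. -/
def conjK (c : Cp d₁ d₂) : Kp d₁ d₂ →* Kp d₁ d₂ :=
  ((MulAut.conj (c : G)).toMonoidHom.comp (Kp d₁ d₂).subtype).codRestrict _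
    fun k => S.conj_mem_Kp c.2 k.2

theorem conjK_coe (c : Cp d₁ d₂) (k : Kp d₁ d₂) : (S.conjK c k : G) = c * k * (c : G)⁻¹ := rfl

theorem conjK_mul (a b : Cp d₁ d₂) (k : Kp d₁ d₂) : S.conjK (a * b) k = S.conjK a (S.conjK b k) :=
  Subtype.ext (by simp [conjK_coe, mul_assoc])

theorem conjK_one (k : Kp d₁ d₂) : S.conjK 1 k = k := Subtype.ext (by simp [conjK_coe])

theorem conjK_surjective (c : Cp d₁ d₂) : Function.Surjective (S.conjK c) := fun k =>
  ⟨S.conjK c⁻¹ k, by rw [← S.conjK_mul, mul_inv_cancel, S.conjK_one]⟩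

variable [Finite G]

theorem eq_bot_of_pGroup (M : Subgroup (Cfsg.PSU 4 F 2)) [hn : M.Normal] (hM : IsPGroup 2 M) : M = ⊥ := by
  haveI := isSimple_four hF
  rcases hn.eq_bot_or_eq_top with h | h
  · exact h
  exfalso
  haveI : Fact (Nat.Prime 2) := ⟨Nat.prime_two⟩
  obtain ⟨k, hk⟩ := IsPGroup.iff_card.1 hM
  rw [h, Subgroup.card_top, natCard_PSU_four hF] at hk
  have h5 : 5 ∣ 2 ^ k := hk ▸ (by norm_num : 5 ∣ 25920)
  have := (Nat.Prime.dvd_of_dvd_pow (by norm_num : Nat.Prime 5) h5)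
  norm_num at this

theorem phi_conjK {k : Kp d₁ d₂} (hk : S.phi k = 1) (c : Cp d₁ d₂) : S.phi (S.conjK c k) = 1 := by
  haveI : (S.phi.ker.map (S.conjK c)).Normal :=
    Subgroup.Normal.map inferInstance _ (S.conjK_surjective c)
  haveI : ((S.phi.ker.map (S.conjK c)).map S.phi).Normal :=
    Subgroup.Normal.map inferInstance _ S.phi_surjective
  have hp : IsPGroup 2 ((S.phi.ker.map (S.conjK c)).map S.phi) := by
    have h : IsPGroup 2 S.phi.ker :=
      S.isPGroup_Op.of_equiv (S.phi.ker.equivMapOfInjective _ (Kp d₁ d₂).subtype_injective).symm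
    exact (h.map _).map _
  have := S.eq_bot_of_pGroup _ hp
  exact Subgroup.mem_bot.1 (this ▸ Subgroup.mem_map_of_mem _ (Subgroup.mem_map_of_mem _ hk))

theorem Op_conj {c x : G} (hc : c ∈ Cp d₁ d₂) (hx : x ∈ S.Op) : c * x * c⁻¹ ∈ S.Op := by
  obtain ⟨hxK, hx1⟩ := S.mem_Op.1 hx
  exact S.mem_Op.2 ⟨S.conj_mem_Kp hc hxK, S.phi_conjK hx1 ⟨c, hc⟩⟩

theorem phi_conjK_congr {k l : Kp d₁ d₂} (h : S.phi k = S.phi l) (c : Cp d₁ d₂) :
    S.phi (S.conjK c k) = S.phi (S.conjK c l) := by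
  rw [← mul_inv_eq_one, ← map_inv, ← map_mul, ← map_inv, ← map_mul]
  exact S.phi_conjK (by rw [map_mul, map_inv, h, mul_inv_cancel]) c

/-- The induced map on the section. -/
noncomputable def twFun (c : Cp d₁ d₂) (x : Cfsg.PSU 4 F 2) : Cfsg.PSU 4 F 2 :=
  S.phi (S.conjK c (Function.surjInv S.phi_surjective x))

theorem twFun_phi (c : Cp d₁ d₂) (k : Kp d₁ d₂) : S.twFun c (S.phi k) = S.phi (S.conjK c k) :=
  S.phi_conjK_congr (Function.surjInv_eq S.phi_surjective _) c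

/-- The action of the centraliser of the product on the section. -/
noncomputable def tw : Cp d₁ d₂ →* MulAut (Cfsg.PSU 4 F 2) where
  toFun c :=
    { toFun := S.twFun c
      invFun := S.twFun c⁻¹
      left_inv := fun x => by
        obtain ⟨k, rfl⟩ := S.phi_surjective x
        rw [S.twFun_phi, S.twFun_phi, ← S.conjK_mul, inv_mul_cancel, S.conjK_one]
      right_inv := fun x => by
        obtain ⟨k, rfl⟩ := S.phi_surjective x
        rw [S.twFun_phi, S.twFun_phi, ← S.conjK_mul, mul_inv_cancel, S.conjK_one]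
      map_mul' := fun x y => by
        obtain ⟨k, rfl⟩ := S.phi_surjective x
        obtain ⟨l, rfl⟩ := S.phi_surjective y
        rw [← map_mul, S.twFun_phi, S.twFun_phi, S.twFun_phi, map_mul, map_mul] }
  map_one' := MulEquiv.ext fun x => by
    obtain ⟨k, rfl⟩ := S.phi_surjective x
    show S.twFun 1 _ = S.phi k
    rw [S.twFun_phi, S.conjK_one]
  map_mul' a b := MulEquiv.ext fun x => by
    obtain ⟨k, rfl⟩ := S.phi_surjective x
    show S.twFun (a * b) _ = S.twFun a (S.twFun b _)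
    rw [S.twFun_phi, S.twFun_phi, S.twFun_phi, S.conjK_mul]

theorem eq_one_of_central {k : Kp d₁ d₂} (h : ∀ l, S.phi (k * l * k⁻¹) = S.phi l) : S.phi k = 1 := by
  refine Subgroup.mem_bot.1 (center_four hF ▸ Subgroup.mem_center_iff.2 fun x => ?_)
  obtain ⟨l, rfl⟩ := S.phi_surjective x
  have := h l
  rw [map_mul, map_mul, map_inv, mul_inv_eq_iff_eq_mul] at this
  exact this.symm

theorem mem_Op_of_trivial {c : G} (hc : c ∈ Cp d₁ d₂)
    (h : ∀ k : Kp d₁ d₂, S.phi ⟨c * k * c⁻¹, S.conj_mem_Kp hc k.2⟩ = S.phi k) : c ∈ S.Op := by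
  have hK := S.mem_Kp_of_trivial hc h
  exact S.mem_Op.2 ⟨hK, S.eq_one_of_central fun l => h l⟩

theorem tw_ker : S.tw.ker = S.Op.subgroupOf (Cp d₁ d₂) := by
  ext ⟨c, hc⟩
  rw [MonoidHom.mem_ker, Subgroup.mem_subgroupOf]
  constructor
  · intro h
    refine S.mem_Op_of_trivial hc fun k => ?_
    have := MulEquiv.congr_fun h (S.phi k)
    exact (S.twFun_phi ⟨c, hc⟩ k).symm.trans this
  · intro h
    obtain ⟨hK, h1⟩ := S.mem_Op.1 h
    refine MulEquiv.ext fun x => ?_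
    obtain ⟨k, rfl⟩ := S.phi_surjective x
    show S.twFun _ _ = S.phi k
    rw [S.twFun_phi, show S.conjK ⟨c, hc⟩ k = ⟨c, hK⟩ * k * (⟨c, hK⟩ : Kp d₁ d₂)⁻¹ from rfl, map_mul, map_mul,
      map_inv, h1, one_mul, inv_one, mul_one]

theorem index_two : ((Kp d₁ d₂).subgroupOf (Cp d₁ d₂)).index = 2 := by
  obtain ⟨s, hs, hs1, hs2⟩ := S.exists_swap
  rw [Subgroup.index_eq_two_iff]
  refine ⟨⟨s, hs⟩, fun b => ?_⟩
  simp only [Subgroup.mem_subgroupOf, Subgroup.coe_mul]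
  have hcond : ∀ g : G, g ∈ Kp d₁ d₂ ↔ g * d₁ * g⁻¹ = d₁ ∧ g * d₂ * g⁻¹ = d₂ := fun g => by
    rw [mem_Kp, mul_inv_eq_iff_eq_mul, mul_inv_eq_iff_eq_mul]
    rfl
  have hne : d₁ ≠ d₂ := S.h2.2.1.symm
  have hb : ∀ d, (b : G) * s * d * ((b : G) * s)⁻¹ = b * (s * d * s⁻¹) * (b : G)⁻¹ := fun d => by group
  rcases pair_cases S.hX.toCtx S.h1 S.h2 b.2 with ⟨e1, e2⟩ | ⟨e1, e2⟩
  · refine Or.inr ⟨(hcond b).2 ⟨e1, e2⟩, fun h => hne ?_⟩
    have := ((hcond _).1 h).1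
    rw [hb, hs1, e2] at this
    exact this.symm
  · refine Or.inl ⟨(hcond _).2 ⟨by rw [hb, hs1, e2], by rw [hb, hs2, e1]⟩, fun h => hne ?_⟩
    have := ((hcond _).1 h).1
    rw [e1] at this
    exact this.symm

theorem natCard_Cp : Nat.card (Cp d₁ d₂) = 51840 * 2 ^ 10 := by
  have h := ((Kp d₁ d₂).subgroupOf (Cp d₁ d₂)).card_mul_index
  rw [S.index_two, Nat.card_congr (Subgroup.subgroupOfEquivOfLe (Kp_le_Cp d₁ d₂)).toEquiv, S.natCard_Kp] at h
  rw [← h]
  norm_num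

theorem tw_surjective : Function.Surjective S.tw := by
  haveI : Finite (MulAut (Cfsg.PSU 4 F 2)) :=
    Nat.finite_of_card_ne_zero (by rw [natCard_mulAut_four hF]; norm_num)
  have h := S.tw.ker.card_mul_index
  rw [Subgroup.index_ker, S.natCard_Cp] at h
  rw [S.tw_ker, Nat.card_congr (Subgroup.subgroupOfEquivOfLe (S.Op_le.trans (Kp_le_Cp d₁ d₂))).toEquiv,
    S.natCard_Op] at h
  have hr : Nat.card S.tw.range = Nat.card (MulAut (Cfsg.PSU 4 F 2)) := by
    rw [natCard_mulAut_four hF]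
    norm_num at h ⊢
    omega
  exact MonoidHom.range_eq_top.1 (Subgroup.eq_top_of_card_eq _ hr)

theorem exists_quot_equiv :
    ∃ (_ : (S.Op.subgroupOf (Cp d₁ d₂)).Normal),
      Nonempty (↥(Cp d₁ d₂) ⧸ S.Op.subgroupOf (Cp d₁ d₂) ≃* MulAut (Cfsg.PSU 4 F 2)) := by
  haveI hn : (S.Op.subgroupOf (Cp d₁ d₂)).Normal := S.tw_ker ▸ inferInstance
  exact ⟨hn, ⟨(QuotientGroup.quotientMulEquivOfEq S.tw_ker.symm).trans
    (QuotientGroup.quotientKerEquivOfSurjective _ S.tw_surjective)⟩⟩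

/-- A normal 2-subgroup lies in the radical. -/
theorem le_Op {N : Subgroup G} (hN : N ≤ Cp d₁ d₂) (hnorm : ∀ c ∈ Cp d₁ d₂, ∀ n ∈ N, c * n * c⁻¹ ∈ N)
    (hp : IsPGroup 2 N) : N ≤ S.Op := by
  haveI : (N.subgroupOf (Kp d₁ d₂)).Normal :=
    ⟨fun n hn g => by
      rw [Subgroup.mem_subgroupOf] at hn ⊢
      exact hnorm g (Kp_le_Cp _ _ g.2) n hn⟩
  haveI : ((N.subgroupOf (Kp d₁ d₂)).map S.phi).Normal :=
    Subgroup.Normal.map inferInstance _ S.phi_surjective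
  have hbot := S.eq_bot_of_pGroup ((N.subgroupOf (Kp d₁ d₂)).map S.phi)
    ((hp.comap_subtype).map _)
  have hK : ∀ k : Kp d₁ d₂, (k : G) ∈ N → S.phi k = 1 := fun k hk =>
    Subgroup.mem_bot.1 (hbot ▸ Subgroup.mem_map_of_mem S.phi (Subgroup.mem_subgroupOf.2 hk))
  intro n hn
  refine S.mem_Op_of_trivial (hN hn) fun k => ?_
  have h := hK (⟨n * k * n⁻¹, S.conj_mem_Kp (hN hn) k.2⟩ * k⁻¹) (by
    rw [Subgroup.coe_mul, Subgroup.coe_inv, show n * k * n⁻¹ * (k : G)⁻¹ = n * (k * n⁻¹ * (k : G)⁻¹) by group]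
    exact mul_mem hn (hnorm k (Kp_le_Cp _ _ k.2) _ (inv_mem hn)))
  rwa [map_mul, map_inv, mul_inv_eq_one] at h

/-! ### The radical -/

omit [Finite G]

theorem exists_ne_conj : ∃ ν : F, σ ν ≠ ν := by
  by_contra! hall
  exact Forms.qPowHom_ne_id (card' hF) (RingHom.ext hall)

theorem mat_mul (k l : Kp d₁ d₂) (x : E6 F) :
    S.co.mat (S.theta (k * l)) x = S.co.mat (S.theta k) (S.co.mat (S.theta l) x) := by
  rw [map_mul, Subgroup.coe_mul, map_mul, LinearEquiv.mul_apply]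

theorem four_of_central {k : Kp d₁ d₂} (hk : S.phi k = 1)
    (h : ∀ l : Kp d₁ d₂, S.phi l = 1 → k * l = l * k) : Four d₁ d₂ (k : G) := by
  obtain ⟨w, c, hc, e⟩ := S.rad_data hk
  have key : ∀ w', σ (β w' w) = β w' w := by
    intro w'
    obtain ⟨c', hc'⟩ := (hW).exists_fill w'
    obtain ⟨l, hl, el⟩ := S.exists_rad hc'
    have h1 := S.mat_mul k l (0, 1, 0)
    rw [h l hl, S.mat_mul l k, e, el, uT_apply, uT_apply, uT_apply, uT_apply] at h1
    have h2 := congrArg Prod.fst h1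
    simp [(hW).zero_left] at h2
    have h3 : β w w' = β w' w := by linear_combination -h2
    rw [(hW).symm, h3]
  refine S.mem_four_of_wc hk ((S.wc_spec e).trans ((hW).nondeg w fun w' => ?_))
  obtain ⟨ν, hν⟩ := S.exists_ne_conj
  have h1 := key w'
  have h2 := key (ν • w')
  rw [(hW).smul_left, map_mul, h1] at h2
  have h3 : (σ ν - ν) * β w' w = 0 := by linear_combination h2
  rw [← (hW).symm, (mul_eq_zero.1 h3).resolve_left (sub_ne_zero.2 hν), map_zero]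

theorem eq_one_of_centralizes {k : Kp d₁ d₂}
    (h : ∀ l : Kp d₁ d₂, S.phi l = 1 → k * l = l * k) : S.phi k = 1 := by
  rw [S.phi_eq_one]
  obtain ⟨w, c, hc, e⟩ := S.co.lev_spec (S.theta k)
  refine Subtype.ext (LinearEquiv.ext fun w' => ?_)
  obtain ⟨c', hc'⟩ := (hW).exists_fill w'
  obtain ⟨l, hl, el⟩ := S.exists_rad hc'
  have h1 := S.mat_mul k l (0, 1, 0)
  rw [h l hl, S.mat_mul l k, e, el] at h1
  simp only [LinearEquiv.mul_apply, uInd_apply, uT_apply] at h1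
  have h2 := congrArg (fun p : E6 F => p.2.2) h1
  simp only [map_zero, zero_add, one_smul] at h2
  have h3 : (S.co.lev (S.theta k) : (Fin 4 → F) ≃ₗ[F] (Fin 4 → F)) w' + w = w + w' := h2.symm
  rw [add_comm w w'] at h3
  exact add_right_cancel h3

theorem center_Kp : (Subgroup.center ↥(Kp d₁ d₂)).map (Kp d₁ d₂).subtype =
    Subgroup.closure ({d₁, d₂} : Set G) := by
  ext g
  rw [S.four_iff]
  constructor
  · rintro ⟨k, hk, rfl⟩
    have hcen := fun l => (Subgroup.mem_center_iff.1 hk l).symm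
    exact S.four_of_central (S.eq_one_of_centralizes fun l _ => hcen l) fun l _ => hcen l
  · intro hg
    have hgK : g ∈ Kp d₁ d₂ := S.Op_le (S.four_mem_Op hg)
    exact ⟨⟨g, hgK⟩, Subgroup.mem_center_iff.2 fun l => Subtype.ext (S.four_central hg l).eq, rfl⟩

theorem comm_four {x y : G} (hx : x ∈ S.Op) (hy : y ∈ S.Op) : Four d₁ d₂ (x * y * x⁻¹ * y⁻¹) := by
  obtain ⟨hxK, hx1⟩ := S.mem_Op.1 hx
  obtain ⟨hyK, hy1⟩ := S.mem_Op.1 hy
  obtain ⟨X, rfl⟩ : ∃ X : Kp d₁ d₂, (X : G) = x := ⟨⟨x, hxK⟩, rfl⟩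
  obtain ⟨Y, rfl⟩ : ∃ Y : Kp d₁ d₂, (Y : G) = y := ⟨⟨y, hyK⟩, rfl⟩
  have hX1 : S.phi X = 1 := hx1
  have hY1 : S.phi Y = 1 := hy1
  refine S.mem_four_of_wc (k := X * Y * X⁻¹ * Y⁻¹) (by simp [hX1, hY1]) ?_
  rw [S.wc_mul (by simp [hX1, hY1]) (by simp [hY1]), S.wc_mul (by simp [hX1, hY1]) (by simp [hX1]),
    S.wc_mul hX1 hY1, S.wc_inv hX1, S.wc_inv hY1]
  abel

theorem sq_four {x : G} (hx : x ∈ S.Op) : Four d₁ d₂ (x * x) := by
  obtain ⟨hxK, hx1⟩ := S.mem_Op.1 hx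
  refine S.mem_four_of_wc (k := ⟨x, hxK⟩ * ⟨x, hxK⟩) (by rw [map_mul, hx1, one_mul]) ?_
  rw [S.wc_mul hx1 hx1]
  exact funext fun i => PSUSix.add_self' hF _

section Column

variable {w : Fin 4 → F} (hw : w ≠ 0) (hww : Cfsg.hermForm 4 F 2 w w = 0)
include hw hww

theorem col_sq (a : F) : S.col a w * S.col a w = 1 := mul_self S.set (S.mk_nb hw hww a).1

theorem col_pair_mem (a : F) : S.col 0 w * S.col a w ∈ S.Op := by
  have he : S.phi ⟨S.col 0 w, S.mk_Kp hw hww 0⟩ = S.phi ⟨S.col a w, S.mk_Kp hw hww a⟩ := by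
    rw [S.phi_eq_iff]
    refine Subtype.ext (LinearEquiv.ext fun v => ?_)
    rw [show (⟨S.col 0 w, S.mk_Kp hw hww 0⟩ : Kp d₁ d₂) = ⟨S.mb (0, 0, w), S.mb_mem_Kp (col_ne hw 0)
      (S.col_iso hww 0) rfl⟩ from rfl, S.phi_mb (col_ne hw 0) (S.col_iso hww 0) rfl,
      show (⟨S.col a w, S.mk_Kp hw hww a⟩ : Kp d₁ d₂) = ⟨S.mb (a, 0, w), S.mb_mem_Kp (col_ne hw a)
      (S.col_iso hww a) rfl⟩ from rfl, S.phi_mb (col_ne hw a) (S.col_iso hww a) rfl]
  refine S.mem_Op.2 ⟨mul_mem (S.mk_Kp hw hww 0) (S.mk_Kp hw hww a), ?_⟩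
  rw [show (⟨S.col 0 w * S.col a w, _⟩ : Kp d₁ d₂) = ⟨S.col 0 w, S.mk_Kp hw hww 0⟩ * ⟨S.col a w, S.mk_Kp hw hww a⟩
    from rfl, map_mul, he, ← map_mul]
  exact (congrArg S.phi (Subtype.ext (S.col_sq hw hww a))).trans (map_one _)

theorem wc_col_pair :
    S.wc ⟨S.col 0 w * S.col 1 w, mul_mem (S.mk_Kp hw hww 0) (S.mk_Kp hw hww 1)⟩ = w := by
  rw [wc, show (⟨S.col 0 w * S.col 1 w, _⟩ : Kp d₁ d₂) =
    ⟨S.mb (0, 0, w), S.mb_mem_Kp (col_ne hw 0) (S.col_iso hww 0) rfl⟩ *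
      ⟨S.mb (1, 0, w), S.mb_mem_Kp (col_ne hw 1) (S.col_iso hww 1) rfl⟩ from rfl,
    S.mat_mul, S.theta_mb (col_ne hw 1) (S.col_iso hww 1) rfl, S.theta_mb (col_ne hw 0) (S.col_iso hww 0) rfl]
  simp [ext6, uExt, (hW).zero_left, hww]

theorem col_quad {x a : F} (ha : a ≠ 0) (hx : x ≠ 0) (hxa : x ≠ a)
    (h : Four d₁ d₂ (S.col x w * S.col (a + x) w * S.col a w * S.col 0 w)) :
    S.col x w * S.col (a + x) w * S.col a w * S.col 0 w = d₁ * d₂ := by
  have hne : ∀ {s t : F}, s ≠ t → S.col s w ≠ S.col t w := fun hst e => hst (S.mk_inj hw hww e)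
  have hax : a + x ≠ 0 := fun e => hxa (by linear_combination e - PSUSix.add_self' hF a)
  have h1 : x ≠ a + x := fun e => ha (by linear_combination -e)
  have h2 : a + x ≠ a := fun e => hx (by linear_combination e)
  have hD : ∀ t, S.col t w ∈ D := fun t => (S.mk_nb hw hww t).1
  have hc := S.mk_commute hw hww
  have hd1 : ∀ t, S.col t w ≠ d₁ := fun t => (S.mk_nb hw hww t).2.1
  have hd2 : ∀ t, S.col t w ≠ d₂ := fun t => (S.mk_nb_two hw hww t).2.1
  have hcd1 : ∀ t, Commute d₁ (S.col t w) := fun t => (S.mk_nb hw hww t).2.2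
  have hcd2 : ∀ t, Commute d₂ (S.col t w) := fun t => (S.mk_nb_two hw hww t).2.2
  rcases h with h | h | h | h
  · refine absurd h ?_
    have := S.hX.noFour [S.col x w, S.col (a + x) w, S.col a w, S.col 0 w]
      (by simp [hne h1, hne hxa, hne hx, hne h2, hne hax, hne ha]) rfl (by simp [hD]) (by simp [hc])
    simpa [mul_assoc] using this
  · exfalso
    refine S.hX.noFive [S.col x w, S.col (a + x) w, S.col a w, S.col 0 w, d₁]
      (by simp [hne h1, hne hxa, hne hx, hne h2, hne hax, hne ha, hd1]) rfl (by simp [hD, S.h1])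
      (by simp [hc, hcd1, (fun t => (hcd1 t).symm), Commute.refl]) ?_
    simp only [List.prod_cons, List.prod_nil, mul_one, ← mul_assoc]
    rw [h, mul_self S.set S.h1]
  · exfalso
    refine S.hX.noFive [S.col x w, S.col (a + x) w, S.col a w, S.col 0 w, d₂]
      (by simp [hne h1, hne hxa, hne hx, hne h2, hne hax, hne ha, hd2]) rfl (by simp [hD, S.h2.1])
      (by simp [hc, hcd2, (fun t => (hcd2 t).symm), Commute.refl]) ?_
    simp only [List.prod_cons, List.prod_nil, mul_one, ← mul_assoc]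
    rw [h, mul_self S.set S.h2.1]
  · exact h

theorem comm_pair {q : G} (hq : q ∈ S.Op) :
    Two d₁ d₂ (q * (S.col 0 w * S.col 1 w) * q⁻¹ * (S.col 0 w * S.col 1 w)⁻¹) := by
  obtain ⟨hqK, hq1⟩ := S.mem_Op.1 hq
  obtain ⟨w', c, hc, e⟩ := S.rad_data hq1
  have hinv : ∀ t, (S.col t w)⁻¹ = S.col t w := fun t => inv_eq S.set (S.mk_nb hw hww t).1
  set x : F := 0 - β w w' with hx
  have e0 : q * S.col 0 w * q⁻¹ = S.col x w := S.conj_mk_rad hw hww e 0
  have e1 : q * S.col 1 w * q⁻¹ = S.col (1 + x) w := by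
    have := S.conj_mk_rad hw hww e 1
    rwa [show (1 : F) + x = 1 - β w w' by rw [hx]; ring]
  have heq : q * (S.col 0 w * S.col 1 w) * q⁻¹ * (S.col 0 w * S.col 1 w)⁻¹ =
      S.col x w * S.col (1 + x) w * S.col 1 w * S.col 0 w := by
    rw [← e0, ← e1, mul_inv_rev, hinv, hinv]
    group
  rw [heq]
  have h4 : Four d₁ d₂ (S.col x w * S.col (1 + x) w * S.col 1 w * S.col 0 w) :=
    heq ▸ S.comm_four hq (S.col_pair_mem hw hww 1)
  by_cases hx0 : x = 0
  · left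
    rw [hx0, add_zero, mul_mul_cancel_right S.set (S.mk_nb hw hww 1).1, S.col_sq hw hww]
  by_cases hx1 : x = 1
  · left
    rw [hx1, PSUSix.add_self' hF, (S.mk_commute hw hww 1 0).eq, mul_mul_cancel_right S.set (S.mk_nb hw hww 1).1,
      S.col_sq hw hww]
  exact Or.inr (S.col_quad hw hww one_ne_zero hx0 hx1 h4)

end Column

/-- Generators of the radical. -/
def gens : Set G :=
  {d₁, d₂} ∪ {g | ∃ w : Fin 4 → F, w ≠ 0 ∧ Cfsg.hermForm 4 F 2 w w = 0 ∧ g = S.col 0 w * S.col 1 w}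

theorem gens_subset : S.gens ⊆ S.Op := by
  rintro g ((rfl | rfl) | ⟨w, hw, hww, rfl⟩)
  · exact S.four_mem_Op (Or.inr (Or.inl rfl))
  · exact S.four_mem_Op (Or.inr (Or.inr (Or.inl rfl)))
  · exact S.col_pair_mem hw hww 1

theorem Op_eq_closure : S.Op = Subgroup.closure S.gens := by
  refine le_antisymm ?_ ((Subgroup.closure_le _).2 S.gens_subset)
  set H := Subgroup.closure S.gens
  have hHO : H ≤ S.Op := (Subgroup.closure_le _).2 S.gens_subset
  have hphi : ∀ {k : Kp d₁ d₂}, (k : G) ∈ H → S.phi k = 1 := fun {k} hk => (S.mem_Op.1 (hHO hk)).2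
  let A : AddSubgroup (Fin 4 → F) :=
    { carrier := {w | ∃ k : Kp d₁ d₂, (k : G) ∈ H ∧ S.wc k = w}
      zero_mem' := ⟨1, one_mem H, S.wc_one⟩
      add_mem' := by
        rintro _ _ ⟨k, hk, rfl⟩ ⟨l, hl, rfl⟩
        exact ⟨k * l, H.mul_mem hk hl, S.wc_mul (hphi hk) (hphi hl)⟩
      neg_mem' := by
        rintro _ ⟨k, hk, rfl⟩
        exact ⟨k⁻¹, H.inv_mem hk, S.wc_inv (hphi hk)⟩ }
  intro g hg
  obtain ⟨hgK, hg1⟩ := S.mem_Op.1 hg
  obtain ⟨k, hk, ek⟩ : S.wc ⟨g, hgK⟩ ∈ A := isotropic_span hF (S := A) (fun w hw hww =>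
    ⟨⟨S.col 0 w * S.col 1 w, mul_mem (S.mk_Kp hw hww 0) (S.mk_Kp hw hww 1)⟩,
      Subgroup.subset_closure (Or.inr ⟨w, hw, hww, rfl⟩), S.wc_col_pair hw hww⟩) _
  have hk1 := hphi hk
  have h4 : Four d₁ d₂ ((k⁻¹ * ⟨g, hgK⟩ : Kp d₁ d₂) : G) := S.mem_four_of_wc
    (by rw [map_mul, map_inv, hk1, hg1, inv_one, one_mul])
    (by rw [S.wc_mul (by rw [map_inv, hk1, inv_one]) hg1, S.wc_inv hk1, ek, neg_add_cancel])
  have hle : Subgroup.closure ({d₁, d₂} : Set G) ≤ H := Subgroup.closure_mono Set.subset_union_left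
  have := H.mul_mem hk (hle (S.four_iff.2 h4))
  simpa using this

theorem two_central {g : G} (hg : Two d₁ d₂ g) {x : G} (hx : x ∈ Kp d₁ d₂) : x * g * x⁻¹ = g := by
  have hg4 : Four d₁ d₂ g := hg.imp id fun h => Or.inr (Or.inr h)
  rw [(S.four_central hg4 ⟨x, hx⟩).eq, mul_inv_cancel_right]

theorem two_mul {g g' : G} (hg : Two d₁ d₂ g) (hg' : Two d₁ d₂ g') : Two d₁ d₂ (g * g') := by
  rcases hg with rfl | rfl <;> rcases hg' with rfl | rfl <;> simp [Two, S.prod_sq]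

theorem two_inv {g : G} (hg : Two d₁ d₂ g) : Two d₁ d₂ g⁻¹ := by
  rcases hg with rfl | rfl
  exacts [Or.inl inv_one, Or.inr (inv_eq_of_mul_eq_one_right S.prod_sq)]

theorem comm_two {q g : G} (hq : q ∈ S.Op) (hg : g ∈ S.Op) : Two d₁ d₂ (q * g * q⁻¹ * g⁻¹) := by
  rw [S.Op_eq_closure] at hg
  induction hg using Subgroup.closure_induction with
  | mem x hx =>
    rcases hx with (rfl | rfl) | ⟨w, hw, hww, rfl⟩
    · left
      rw [(mem_Kp.1 (S.Op_le hq)).1.eq, mul_inv_cancel_right, mul_inv_cancel]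
    · left
      rw [(mem_Kp.1 (S.Op_le hq)).2.eq, mul_inv_cancel_right, mul_inv_cancel]
    · exact S.comm_pair hw hww hq
  | one => left; simp
  | mul a b ha hb iha ihb =>
    have haK : a ∈ Kp d₁ d₂ := S.Op_le (S.Op_eq_closure ▸ ha)
    rw [show q * (a * b) * q⁻¹ * (a * b)⁻¹ = (q * a * q⁻¹ * a⁻¹) * (a * (q * b * q⁻¹ * b⁻¹) * a⁻¹) by group,
      S.two_central ihb haK]
    exact S.two_mul iha ihb
  | inv a ha iha =>
    have haK : a ∈ Kp d₁ d₂ := S.Op_le (S.Op_eq_closure ▸ ha)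
    rw [show q * a⁻¹ * q⁻¹ * a⁻¹⁻¹ = a⁻¹ * (q * a * q⁻¹ * a⁻¹)⁻¹ * a⁻¹⁻¹ by group,
      S.two_central (S.two_inv iha) (inv_mem haK)]
    exact S.two_inv iha

theorem sq_two {g : G} (hg : g ∈ S.Op) : Two d₁ d₂ (g * g) := by
  rw [S.Op_eq_closure] at hg
  induction hg using Subgroup.closure_induction with
  | mem x hx =>
    rcases hx with (rfl | rfl) | ⟨w, hw, hww, rfl⟩
    · exact Or.inl (mul_self S.set S.h1)
    · exact Or.inl (mul_self S.set S.h2.1)
    · left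
      rw [(S.mk_commute hw hww 1 0).mul_mul_mul_comm, S.col_sq hw hww, S.col_sq hw hww, one_mul]
  | one => left; simp
  | mul a b ha hb iha ihb =>
    have hb' : b ∈ S.Op := S.Op_eq_closure ▸ hb
    have ha' : a ∈ S.Op := S.Op_eq_closure ▸ ha
    rw [show a * b * (a * b) = a * a * (a⁻¹ * b * a⁻¹⁻¹ * b⁻¹) * (b * b) by group]
    exact S.two_mul (S.two_mul iha (S.comm_two (inv_mem ha') hb')) ihb
  | inv a _ iha =>
    rw [← mul_inv_rev]
    exact S.two_inv iha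

/-- The radical is its own centraliser's bound. -/
theorem mem_Op_of_centralizes [Finite G] {c : G} (hc : c ∈ Cp d₁ d₂) (h : ∀ x ∈ S.Op, Commute c x) :
    c ∈ S.Op := by
  have hK : c ∈ Kp d₁ d₂ := mem_Kp.2 ⟨h _ (S.four_mem_Op (Or.inr (Or.inl rfl))),
    h _ (S.four_mem_Op (Or.inr (Or.inr (Or.inl rfl))))⟩
  exact S.mem_Op.2 ⟨hK, S.eq_one_of_centralizes (k := ⟨c, hK⟩) fun l hl =>
    Subtype.ext (h l (S.mem_Op.2 ⟨l.2, hl⟩)).eq⟩

end Setup

end Cfsg.Agent.Lib.FischerPair
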