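import Cfsg.Agent.Lib.M22Struct66.Chart
import Cfsg.Agent.Lib.MinIndexUnitary.Point

/-!
# The stabiliser of an isotropic vector in `SU₆(2)`, in split coordinates
-/

set_option autoImplicit false
set_option linter.unusedTactic false
set_option linter.unreachableTactic false

namespace Cfsg.Agent.Lib.FischerPair

open Cfsg Cfsg.Agent.Lib.PSUAut Cfsg.Agent.Lib.Classical Cfsg.Agent.Lib.MinIndexUnitary
open Cfsg.Agent.Lib.ThreeTransp.PSUSix (card' IsPt)

variable {F : Type} [Field F] [Fintype F] (hF : Fintype.card F = 4)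

/-- The split space. -/
abbrev E6 (F : Type) : Type := F × F × (Fin 4 → F)

/-- The distinguished point. -/
abbrev base6 (F : Type) [Field F] : E6 F := ((1 : F), (0 : F), (0 : Fin 4 → F))

/-- The Hermitian form on the split space. -/
noncomputable abbrev ext6 : E6 F → E6 F → F :=
  uExt (Forms.qPowHom (card' hF)) (Cfsg.hermForm 4 F 2)

local notation "V6" => (Fin 6 → F)
local notation "W" => (Fin 4 → F)
local notation "B" => Cfsg.hermForm 6 F 2
local notation "β" => Cfsg.hermForm 4 F 2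
local notation "σ" => Forms.qPowHom (card' hF)
local notation "hW" => hermSpace_std (card' hF) 4
local notation "tv" v:max => (Cfsg.Agent.Lib.ThreeTransp.PSUSix.tv (F := F) v)
local notation "SU6" => (SUType 6 F 2)
local notation "tt" v:max => (eich v (0 : Fin 6 → F) (1 : F) : SUType 6 F 2)

/-- Split coordinates in which the distinguished point is `v₀`. -/
structure Coord (v₀ : V6) where
  e : E6 F ≃ₗ[F] V6
  iso : ∀ p p', B (e p) (e p') = ext6 hF p p'
  base : e (base6 F) = v₀

theorem exists_coord {v₀ : V6} (h0 : v₀ ≠ 0) (hv : B v₀ v₀ = 0) : Nonempty (Coord hF v₀) := by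
  obtain ⟨e₀, he₀⟩ := exists_split (card' hF) 4
  obtain ⟨v, hv1⟩ := exists_unit_vector (card' hF) 3
  obtain ⟨g, hg, hgv⟩ := exists_uGroup_move hW hv1 (e₀.symm v₀)
    (by rw [isometry_symm e₀ he₀]; exact hv)
    (by rw [ne_eq, map_eq_zero_iff _ e₀.symm.injective]; exact h0)
  exact ⟨⟨g.trans e₀, fun p p' => by
      rw [LinearEquiv.trans_apply, LinearEquiv.trans_apply, he₀, uGroup_le _ hg],
    by rw [LinearEquiv.trans_apply, hgv, e₀.apply_symm_apply]⟩⟩

/-- The vector stabiliser. -/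
def Fixv (v₀ : V6) : Subgroup SU6 where
  carrier := {s | act s v₀ = v₀}
  mul_mem' {a b} ha hb := by
    show act (a * b) v₀ = v₀
    rw [act_mul, show act b v₀ = v₀ from hb, show act a v₀ = v₀ from ha]
  one_mem' := act_one v₀
  inv_mem' {a} ha := by
    show act a⁻¹ v₀ = v₀
    conv_lhs => rw [← show act a v₀ = v₀ from ha]
    rw [act_inv_cancel']

omit [Fintype F] in
theorem mem_Fixv {v₀ : V6} {s : SU6} : s ∈ Fixv v₀ ↔ act s v₀ = v₀ := Iff.rfl

section
include hF

/-- Scalars lie in `SU₆(2)`. -/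
theorem exists_scalar {t : F} (ht : t ≠ 0) : ∃ z : SU6, ∀ v, act z v = t • v := by
  have h := hermSpace_std (card' hF) 6
  let g : V6 ≃ₗ[F] V6 := LinearEquiv.smulOfNeZero F _ t ht
  have hg : g ∈ biIsoGroup B := fun u v => by
    show B (t • u) (t • v) = _
    rw [h.smul_left, h.smul_right, Forms.qPowHom_apply, ← mul_assoc, ← pow_succ',
      ThreeTransp.PSUSix.pow_three hF ht, one_mul]
  have hd : LinearEquiv.det g = 1 := Units.ext (by
    rw [LinearEquiv.coe_det, show g.toLinearMap = t • LinearMap.id from rfl, LinearMap.det_smul,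
      LinearMap.det_id, mul_one, Module.finrank_fin_fun, show (6 : ℕ) = 3 * 2 from rfl, pow_mul,
      ThreeTransp.PSUSix.pow_three hF ht, one_pow, Units.val_one])
  obtain ⟨z, hz⟩ := (range_suLinear (card' hF) 6).symm ▸ mem_uGroup_of_det (card' hF) 6 g hg hd
  exact ⟨z, fun v => by rw [act, hz]; rfl⟩

theorem exists_fix_lift {v₀ : V6} (h0 : v₀ ≠ 0) (hv : B v₀ v₀ = 0) {s : SU6}
    (hs : Commute (proj s) (tv v₀)) : ∃ r ∈ Fixv v₀, proj r = proj s := by
  have h1 : tv (act s v₀) = tv v₀ := by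
    rw [ThreeTransp.PSUSix.tv, ThreeTransp.PSUSix.tv, ← ThreeTransp.PSUSix.conj_T hF s hv, ← ThreeTransp.PSUSix.tv, hs.eq, mul_inv_cancel_right]
  obtain ⟨a, ha⟩ := ThreeTransp.PSUSix.T_line hF (act_ne_zero s h0) ((act_form s _ _).trans hv) hv h1
  have ha0 : a ≠ 0 := fun e => act_ne_zero s h0 (by rw [ha, e, zero_smul])
  obtain ⟨z, hz⟩ := exists_scalar hF (inv_ne_zero ha0)
  refine ⟨z * s, ?_, (proj_eq_of_scalar (a := a⁻¹) fun v => ?_).symm⟩
  · rw [mem_Fixv, act_mul, ha, hz, inv_smul_smul₀ ha0]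
  · rw [act_mul, hz]

theorem proj_injOn_fix {v₀ : V6} (h0 : v₀ ≠ 0) {s t : SU6} (hs : s ∈ Fixv v₀) (ht : t ∈ Fixv v₀)
    (h : proj s = proj t) : s = t := by
  have hz : s⁻¹ * t ∈ Subgroup.center SU6 := by
    rwa [proj_apply, proj_apply, QuotientGroup.eq] at h
  have hsc := center_SU_scalar (card' hF) _ hz 0
  set a := (s⁻¹ * t).1.1 0 0
  have hact : ∀ v, act (s⁻¹ * t) v = a • v := fun v => by
    show (Matrix.mulVec (s⁻¹ * t).1.1 v : V6) = a • v
    rw [hsc]
    funext i
    simp [Matrix.mulVec_diagonal]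
  have hv : a • v₀ = v₀ := by
    rw [← hact]
    exact (mul_mem (inv_mem hs) ht : _)
  have ha : a = 1 := smul_left_injective F h0 (hv.trans (one_smul F v₀).symm)
  refine (inv_mul_eq_one.1 (act_ext fun v => ?_))
  rw [hact, ha, one_smul, act_one]

end

namespace Coord

variable {hF}
variable {v₀ : Fin 6 → F}
variable (co : Coord hF v₀)

/-- An element in split coordinates. -/
noncomputable def mat : SU6 →* (E6 F ≃ₗ[F] E6 F) :=
  (autConj co.e.symm).toMonoidHom.comp (suLinear 6 F 2)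

theorem mat_apply (s : SU6) (p : E6 F) : co.mat s p = co.e.symm (act s (co.e p)) := rfl

theorem e_mat (s : SU6) (p : E6 F) : co.e (co.mat s p) = act s (co.e p) := by
  rw [mat_apply, LinearEquiv.apply_symm_apply]

theorem mat_mem (s : SU6) : co.mat s ∈ suE (card' hF) 4 :=
  autConj_mem_uGroup (hermSpace_std (card' hF) 6) (hW).ext co.e.symm
    (isometry_symm co.e co.iso) ((range_suLinear (card' hF) 6) ▸ ⟨s, rfl⟩)

theorem exists_mat {g : E6 F ≃ₗ[F] E6 F} (hg : g ∈ suE (card' hF) 4) : ∃ s, co.mat s = g := by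
  obtain ⟨s, hs⟩ : autConj co.e g ∈ (suLinear 6 F 2).range :=
    (range_suLinear (card' hF) 6).symm ▸
      autConj_mem_uGroup (hW).ext (hermSpace_std (card' hF) 6) co.e co.iso hg
  refine ⟨s, LinearEquiv.ext fun p => ?_⟩
  rw [mat_apply, act, hs, autConj_apply, co.e.symm_apply_apply, co.e.symm_apply_apply]

theorem mat_injective : Function.Injective co.mat :=
  (autConj co.e.symm).injective.comp (suLinear_injective 6)

theorem mem_fix_iff {s : SU6} : s ∈ Fixv v₀ ↔ co.mat s (base6 F) = base6 F := by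
  rw [mem_Fixv, ← co.e.injective.eq_iff, co.e_mat, co.base]

theorem decomp (s : Fixv v₀) :
    ∃ (w : W) (c : F) (hc : c + σ c + β w w = 0), ∃ k ∈ suV (card' hF) 4,
      co.mat s = uT hW w c hc * uInd k :=
  fix_decomp (card' hF) (co.mat_mem s) (co.mem_fix_iff.1 s.2)

theorem third_of {w : W} {c : F} {k : W ≃ₗ[F] W} {g : E6 F ≃ₗ[F] E6 F}
    {hc : c + σ c + β w w = 0}
    (hg : g = uT hW w c hc * uInd k) (x : F) (v : W) :
    (g (x, 0, v)).2.2 = k v := by
  rw [hg, LinearEquiv.mul_apply, uInd_apply, uT_apply]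
  simp

/-- The Levi part, as a map. -/
noncomputable def levAut (s : Fixv v₀) : W ≃ₗ[F] W :=
  (co.decomp s).choose_spec.choose_spec.choose_spec.choose

theorem levAut_mem (s : Fixv v₀) : co.levAut s ∈ suV (card' hF) 4 :=
  (co.decomp s).choose_spec.choose_spec.choose_spec.choose_spec.1

theorem levAut_spec (s : Fixv v₀) :
    ∃ (w : W) (c : F) (hc : c + σ c + β w w = 0), co.mat s = uT hW w c hc * uInd (co.levAut s) :=
  ⟨_, _, _, (co.decomp s).choose_spec.choose_spec.choose_spec.choose_spec.2⟩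

theorem levAut_apply (s : Fixv v₀) (x : F) (v : W) :
    co.levAut s v = (co.mat s (x, 0, v)).2.2 := by
  obtain ⟨w, c, hc, h⟩ := co.levAut_spec s
  exact (third_of (hF := hF) h x v).symm

theorem levAut_mul (s t : Fixv v₀) : co.levAut (s * t) = co.levAut s * co.levAut t := by
  refine LinearEquiv.ext fun v => ?_
  obtain ⟨w, c, hc, ht⟩ := co.levAut_spec t
  have he : co.mat t (0, 0, v) = ((co.mat t (0, 0, v)).1, 0, co.levAut t v) := by
    rw [ht, LinearEquiv.mul_apply, uInd_apply, uT_apply]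
    simp
  rw [LinearEquiv.mul_apply, co.levAut_apply (s * t) 0 v, Subgroup.coe_mul, map_mul,
    LinearEquiv.mul_apply, he, ← co.levAut_apply s]

/-- The Levi component. -/
noncomputable def lev : Fixv v₀ →* suV (card' hF) 4 :=
  MonoidHom.mk' (fun s => ⟨co.levAut s, co.levAut_mem s⟩) fun s t => Subtype.ext (co.levAut_mul s t)

theorem lev_spec (s : Fixv v₀) :
    ∃ (w : W) (c : F) (hc : c + σ c + β w w = 0),
      co.mat s = uT hW w c hc * uInd (co.lev s : W ≃ₗ[F] W) :=
  co.levAut_spec s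

theorem lev_apply (s : Fixv v₀) (v : W) : (co.lev s : W ≃ₗ[F] W) v = (co.mat s (0, 0, v)).2.2 :=
  co.levAut_apply s 0 v

theorem exists_fix {w : W} {c : F} (hc : c + σ c + β w w = 0) {k : W ≃ₗ[F] W}
    (hk : k ∈ suV (card' hF) 4) : ∃ s : Fixv v₀, co.mat s = uT hW w c hc * uInd k := by
  obtain ⟨s, hs⟩ := co.exists_mat (uT_mul_uInd_mem (card' hF) hc hk)
  exact ⟨⟨s, co.mem_fix_iff.2 (by rw [hs]; exact uT_mul_uInd_fix (card' hF) hc k)⟩, hs⟩

theorem lev_eq {s : Fixv v₀} {w : W} {c : F} {hc : c + σ c + β w w = 0} {k : suV (card' hF) 4}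
    (hs : co.mat s = uT hW w c hc * uInd (k : W ≃ₗ[F] W)) : co.lev s = k :=
  Subtype.ext (LinearEquiv.ext fun v => by rw [lev_apply, third_of (hF := hF) hs 0 v])

theorem rad_spec {s : Fixv v₀} (h : co.lev s = 1) :
    ∃ (w : W) (c : F) (hc : c + σ c + β w w = 0), co.mat s = uT hW w c hc := by
  obtain ⟨w, c, hc, e⟩ := co.lev_spec s
  exact ⟨w, c, hc, by rw [e, h, OneMemClass.coe_one, Fusion.SUData.uInd_one, mul_one]⟩

theorem exists_rad {w : W} {c : F} (hc : c + σ c + β w w = 0) :
    ∃ s : Fixv v₀, co.lev s = 1 ∧ co.mat s = uT hW w c hc := by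
  obtain ⟨s, hs⟩ := co.exists_fix hc (one_mem _)
  exact ⟨s, co.lev_eq (k := 1) hs, by rw [hs, Fusion.SUData.uInd_one, mul_one]⟩

theorem lev_surjective : Function.Surjective co.lev := fun k => by
  obtain ⟨s, hs⟩ := co.exists_fix (w := 0) (c := 0)
    (by rw [map_zero, HermSpace.zero_left hW]; simp) k.2
  exact ⟨s, co.lev_eq hs⟩

include hF in
/-- A transvection fixing `v₀`. -/
theorem tt_mem {v : V6} (hv : B v v = 0) (h0 : B v₀ v = 0) : tt v ∈ Fixv v₀ := by
  rw [mem_Fixv, ThreeTransp.PSUSix.act_t hF hv, h0, zero_smul, add_zero]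

theorem mat_tt {p : E6 F} (hp : ext6 hF p p = 0) (x : E6 F) :
    co.mat (tt (co.e p)) x = x + ext6 hF x p • p := by
  rw [mat_apply, ThreeTransp.PSUSix.act_t hF (by rw [co.iso, hp]), co.iso, map_add, map_smul,
    co.e.symm_apply_apply, co.e.symm_apply_apply]

theorem lev_tt {p : E6 F} (hp : ext6 hF p p = 0) (h : tt (co.e p) ∈ Fixv v₀) (v : W) :
    (co.lev ⟨_, h⟩ : W ≃ₗ[F] W) v = v + ext6 hF (0, 0, v) p • p.2.2 := by
  rw [lev_apply, mat_tt co hp]
  rfl

end Coord

include hF

theorem natCard_radData : Nat.card {p : W × F // p.2 + σ p.2 + β p.1 p.1 = 0} = 512 := by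
  classical
  have := ThreeTransp.PSUSix.charTwo hF
  have h := hermSpace_std (card' hF) 4
  let tr : F →+ F := (AddMonoidHom.id F) + (σ).toAddMonoidHom
  have hfib : ∀ w : W, Nat.card {c : F // c + σ c + β w w = 0} = 2 := fun w => by
    obtain ⟨c₀, hc₀⟩ := h.exists_fill w
    have hker : ∀ c : F, c + σ c = 0 ↔ c = 0 ∨ c = 1 := fun c => by
      rw [Forms.qPowHom_apply]
      constructor
      · intro e
        have : c * (1 + c) = 0 := by linear_combination e
        rcases mul_eq_zero.1 this with e1 | e1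
        · exact Or.inl e1
        · exact Or.inr (by linear_combination e1 - ThreeTransp.PSUSix.add_self' hF (1 : F))
      · rintro (rfl | rfl)
        · simp
        · rw [one_pow]; exact ThreeTransp.PSUSix.add_self' hF 1
    have heq : {c : F | c + σ c + β w w = 0} = {c₀, c₀ + 1} := by
      ext c
      simp only [Set.mem_ofPred_eq, Set.mem_insert_iff, Set.mem_singleton_iff]
      constructor
      · intro hc
        have : (c - c₀) + σ (c - c₀) = 0 := by rw [map_sub]; linear_combination hc - hc₀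
        rcases (hker _).1 this with e | e
        · exact Or.inl (by linear_combination e)
        · exact Or.inr (by linear_combination e)
      · rintro (rfl | rfl)
        · exact hc₀
        · rw [map_add, map_one]; linear_combination hc₀ + ThreeTransp.PSUSix.add_self' hF (1 : F)
    rw [show {c : F // c + σ c + β w w = 0} = ↥{c : F | c + σ c + β w w = 0} from rfl, heq,
      Nat.card_coe_set_eq, Set.ncard_pair (by simp)]
  let e : {p : W × F // p.2 + σ p.2 + β p.1 p.1 = 0} ≃ Σ w : W, {c : F // c + σ c + β w w = 0} :=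
    { toFun := fun p => ⟨p.1.1, p.1.2, p.2⟩
      invFun := fun q => ⟨(q.1, q.2.1), q.2.2⟩
      left_inv := fun _ => rfl
      right_inv := fun _ => rfl }
  rw [Nat.card_congr e, Nat.card_sigma, Finset.sum_congr rfl fun w _ => hfib w]
  simp [hF]

theorem natCard_PSU_four : Nat.card (Cfsg.PSU 4 F 2) = 25920 := by
  have h := natCard_PSU (card' hF) 4 (by norm_num)
  simp [Finset.prod_range_succ, Nat.even_iff] at h
  omega

theorem isSimple_four : IsSimpleGroup (Cfsg.PSU 4 F 2) :=
  isSimpleGroup_PSU (card' hF) 2 (by norm_num) (by norm_num)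

/-- `SU₄(2)` has trivial centre, so it is `PSU₄(2)`. -/
theorem exists_psuEquiv : Nonempty (suV (card' hF) 4 ≃* Cfsg.PSU 4 F 2) := by
  have hinj : Function.Injective (QuotientGroup.mk' (Subgroup.center (Cfsg.SU 4 F 2))) := by
    rw [← MonoidHom.ker_eq_bot_iff, QuotientGroup.ker_mk', eq_bot_iff]
    intro z hz
    have hsc := center_SU_scalar (card' hF) z hz 0
    set a := z.1.1 0 0
    have hdet : a ^ 4 = 1 := by
      have := z.1.2
      rw [hsc, Matrix.det_diagonal] at this
      simpa using this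
    have ha0 : a ≠ 0 := fun e => by rw [e] at hdet; simp at hdet
    have ha : a = 1 := by
      rwa [pow_succ, ThreeTransp.PSUSix.pow_three hF ha0, one_mul] at hdet
    refine Subgroup.mem_bot.2 (Subtype.ext (Subtype.ext ?_))
    rw [hsc, ha]
    exact Matrix.diagonal_one
  exact ⟨(((MonoidHom.ofInjective (suLinear_injective (F := F) (q := 2) 4)).trans
    (MulEquiv.subgroupCongr (range_suLinear (card' hF) 4))).symm).trans
    (MulEquiv.ofBijective _ ⟨hinj, QuotientGroup.mk'_surjective _⟩)⟩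

theorem natCard_suV : Nat.card (suV (card' hF) 4) = 25920 := by
  obtain ⟨e⟩ := exists_psuEquiv hF
  rw [Nat.card_congr e.toEquiv, natCard_PSU_four hF]

theorem Coord.natCard_fix {v₀ : V6} (co : Coord hF v₀) : Nat.card (Fixv v₀) = 512 * 25920 := by
  let f : {p : W × F // p.2 + σ p.2 + β p.1 p.1 = 0} → co.lev.ker :=
    fun p => ⟨(co.exists_rad p.2).choose, (co.exists_rad p.2).choose_spec.1⟩
  have hf : Function.Bijective f := by
    constructor
    · rintro ⟨⟨w, c⟩, hp⟩ ⟨⟨w', c'⟩, hp'⟩ he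
      have h1 := (co.exists_rad hp).choose_spec.2
      have h2 := (co.exists_rad hp').choose_spec.2
      have h3 : co.mat (f ⟨(w, c), hp⟩ : Fixv v₀) = co.mat (f ⟨(w', c'), hp'⟩ : Fixv v₀) := by rw [he]
      have h4 := (h1.symm.trans h3).trans h2
      have h5 := LinearEquiv.congr_fun h4 ((0 : F), (1 : F), (0 : W))
      simp [uT_apply, Prod.ext_iff, HermSpace.zero_left (hermSpace_std (card' hF) 4)] at h5
      exact Subtype.ext (Prod.ext h5.2 h5.1)
    · rintro ⟨s, hs⟩
      obtain ⟨w, c, hc, e⟩ := co.rad_spec hs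
      exact ⟨⟨(w, c), hc⟩, Subtype.ext (Subtype.ext (co.mat_injective
        (((co.exists_rad hc).choose_spec.2).trans e.symm)))⟩
  rw [← co.lev.ker.card_mul_index, Subgroup.index_ker, MonoidHom.range_eq_top.2 co.lev_surjective,
    Subgroup.card_top, natCard_suV hF, ← Nat.card_congr (Equiv.ofBijective f hf), natCard_radData hF]

/-- An eigenvector of every non-zero eigenvalue. -/
theorem exists_torus : ∃ w₀ : W, w₀ ≠ 0 ∧ β w₀ w₀ = 0 ∧
    ∀ ν : F, ν ≠ 0 → ∃ k ∈ suV (card' hF) 4, k w₀ = ν • w₀ := by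
  obtain ⟨e, he⟩ := exists_split (card' hF) 2
  obtain ⟨v, hv⟩ := exists_unit_vector (card' hF) 1
  refine ⟨e ((1 : F), (0 : F), (0 : Fin 2 → F)), ?_, ?_, fun ν hν => ?_⟩
  · rw [ne_eq, map_eq_zero_iff _ e.injective]
    exact fun h => one_ne_zero (Prod.ext_iff.1 h).1
  · rw [he]
    simp [uExt, (hermSpace_std (card' hF) 2).zero_left]
  · obtain ⟨g, hg, hgv⟩ := exists_uGroup_scale (hermSpace_std (card' hF) 2) hv ν hν
    refine ⟨autConj e g, autConj_mem_uGroup (hermSpace_std (card' hF) 2).ext _ e he hg, ?_⟩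
    rw [autConj_apply, e.symm_apply_apply, hgv, map_smul]

/-- The isotropic vectors span additively. -/
theorem isotropic_span {S : AddSubgroup W} (hS : ∀ w, w ≠ 0 → β w w = 0 → w ∈ S) (w : W) : w ∈ S := by
  have hS' : ∀ w, β w w = 0 → w ∈ S := fun w h => by
    by_cases hw : w = 0
    · exact hw ▸ zero_mem S
    · exact hS w hw h
  obtain ⟨e, he⟩ := exists_split (card' hF) 2
  have h2 := hermSpace_std (card' hF) 2
  obtain ⟨p, rfl⟩ := e.surjective w
  obtain ⟨c, hc⟩ := h2.exists_fill p.2.2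
  have hp : p = ((p.1 - c, 0, 0) : F × F × (Fin 2 → F)) + (0, p.2.1 - 1, 0) + (c, 1, p.2.2) := by
    ext <;> simp
  rw [hp, map_add, map_add]
  refine add_mem (add_mem (hS' _ ?_) (hS' _ ?_)) (hS' _ ?_) <;> rw [he]
  · simp [uExt, h2.zero_left]
  · simp [uExt, h2.zero_left]
  · simpa [uExt] using hc

theorem exists_pair_value {w₀ : W} (hw : w₀ ≠ 0) (a : F) : ∃ w : W, β w₀ w = a := by
  have h := hermSpace_std (card' hF) 4
  by_contra! hne
  refine hw (h.nondeg w₀ fun w => ?_)
  have key : β w₀ w = 0 := by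
    by_contra h0
    have := hne (σ (a / β w₀ w) • w)
    rw [h.smul_right, h.invol, div_mul_cancel₀ _ h0] at this
    exact this rfl
  exact key

end Cfsg.Agent.Lib.FischerPair
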