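import Cfsg.Agent.Lib.FischerPair.Pair

/-!
# No element exchanging the pair is inner on the `PSU₄(2)` section
-/

set_option autoImplicit false
set_option linter.style.haveILetI false
set_option linter.unusedSectionVars false

namespace Cfsg.Agent.Lib.FischerPair

open Cfsg Cfsg.Agent.Lib.ThreeTransp Cfsg.Agent.Lib.M22Struct66
open Cfsg.Agent.Lib.PSUAut (SUType proj act eich proj_surjective act_mul act_form act_ne_zero)
open Cfsg.Agent.Lib.Classical (uT uInd uT_apply uInd_apply uExt hermSpace_std)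
open Cfsg.Agent.Lib.MinIndexUnitary (suV)
open Cfsg.Agent.Lib.ThreeTransp.PSUSix (card' IsPt)

variable {G : Type*} [Group G] {D : Set G}

theorem center_four {F : Type} [Field F] [Fintype F] (hF : Fintype.card F = 4) :
    Subgroup.center (Cfsg.PSU 4 F 2) = ⊥ := by
  haveI := isSimple_four hF
  rcases Subgroup.Normal.eq_bot_or_eq_top
    (inferInstance : (Subgroup.center (Cfsg.PSU 4 F 2)).Normal) with h | h
  · exact h
  exfalso
  haveI : Fact (Nat.Prime 2) := ⟨Nat.prime_two⟩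
  obtain ⟨x, hx⟩ := exists_prime_orderOf_dvd_card' (G := Cfsg.PSU 4 F 2) 2
    (by rw [natCard_PSU_four hF]; norm_num)
  have hn : (Subgroup.zpowers x).Normal := ⟨fun n hn g => by
    have hc : n ∈ Subgroup.center (Cfsg.PSU 4 F 2) := h ▸ Subgroup.mem_top n
    rwa [Subgroup.mem_center_iff.1 hc g, mul_inv_cancel_right]⟩
  rcases hn.eq_bot_or_eq_top with e | e
  · have h1 := congrArg (fun H : Subgroup (Cfsg.PSU 4 F 2) => Nat.card H) e
    simp only [Nat.card_zpowers, hx, Subgroup.card_bot] at h1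
    omega
  · have h1 := congrArg (fun H : Subgroup (Cfsg.PSU 4 F 2) => Nat.card H) e
    simp only [Nat.card_zpowers, hx, Subgroup.card_top, natCard_PSU_four hF] at h1
    omega

namespace Setup

variable {F : Type} [Field F] [Fintype F] {d₁ d₂ : G}
variable (S : Setup D F d₁ d₂)

local notation "hF" => S.hX.card
local notation "β" => Cfsg.hermForm 4 F 2
local notation "σ" => Forms.qPowHom (card' S.hX.card)
local notation "hW" => hermSpace_std (card' S.hX.card) 4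

/-- A member in the column of `w`. -/
noncomputable def col (a : F) (w : Fin 4 → F) : G := S.mb (a, 0, w)

variable {w : Fin 4 → F} (hw : w ≠ 0) (hww : Cfsg.hermForm 4 F 2 w w = 0)

include hw in
theorem col_ne (a : F) : ((a, 0, w) : E6 F) ≠ 0 := fun h => hw (Prod.ext_iff.1 (Prod.ext_iff.1 h).2).2

include hww in
theorem col_iso (a : F) : ext6 hF ((a, 0, w) : E6 F) (a, 0, w) = 0 := by simp [ext6, uExt, hww]

include hw hww

theorem mk_nb (a : F) : S.col a w ∈ nb D d₁ := (S.mb_spec (col_ne hw a) (S.col_iso hww a)).choose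

theorem mk_Kp (a : F) : S.col a w ∈ Kp d₁ d₂ := S.mb_mem_Kp (col_ne hw a) (S.col_iso hww a) rfl

theorem mk_inj {a a' : F} (h : S.col a w = S.col a' w) : a = a' := by
  obtain ⟨t, -, e⟩ := (S.mb_eq_iff (col_ne hw a) (S.col_iso hww a) (col_ne hw a') (S.col_iso hww a')).1 h
  simp only [Prod.smul_mk, Prod.mk.injEq, smul_eq_mul] at e
  obtain ⟨i, hi⟩ := Function.ne_iff.1 hw
  have h2 := congrFun e.2.2 i
  rw [Pi.smul_apply, smul_eq_mul] at h2
  have ht : t = 1 := by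
    have h3 : (t - 1) * w i = 0 := by linear_combination -h2
    rcases mul_eq_zero.1 h3 with e3 | e3
    · exact sub_eq_zero.1 e3
    · exact absurd e3 hi
  rw [e.1, ht, one_mul]

theorem mk_nb_two (a : F) : S.col a w ∈ nb D d₂ := by
  refine ⟨(S.mk_nb hw hww a).1, fun h => ?_, (mem_Kp.1 (S.mk_Kp hw hww a)).2.symm⟩
  have hb : (base6 F) ≠ 0 := fun h => one_ne_zero (Prod.ext_iff.1 h).1
  obtain ⟨t, -, e⟩ := (S.mb_eq_iff (col_ne hw a) (S.col_iso hww a) hb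
    (by simp [ext6, uExt, (hW).zero_left])).1 (h.trans S.mb_base.symm)
  exact hw (by simpa using (Prod.ext_iff.1 (Prod.ext_iff.1 e).2).2)

theorem mk_commute (a a' : F) : Commute (S.col a w) (S.col a' w) :=
  (S.commute_mb (col_ne hw a) (S.col_iso hww a) (col_ne hw a') (S.col_iso hww a')).2
    (by simp [ext6, uExt, hww])

theorem conj_mk_rad {k : Kp d₁ d₂} {w' : Fin 4 → F} {c : F} {hc : c + σ c + β w' w' = 0}
    (hk : S.co.mat (S.theta k) = uT hW w' c hc) (a : F) :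
    (k : G) * S.col a w * (k : G)⁻¹ = S.col (a - β w w') w :=
  S.conj_mb_rad hk a hw hww

theorem exists_torus_el {ν : F} (hν : ν ≠ 0) {k4 : (Fin 4 → F) ≃ₗ[F] (Fin 4 → F)}
    (hk4 : k4 ∈ suV (card' hF) 4) (hw4 : k4 w = ν⁻¹ • w) :
    ∃ k : Kp d₁ d₂, ∀ a, (k : G) * S.col a w * (k : G)⁻¹ = S.col (ν * a) w := by
  have hc0 : (0 : F) + σ 0 + β (0 : Fin 4 → F) 0 = 0 := by rw [map_zero, (hW).zero_left]; simp
  obtain ⟨s, hs⟩ := S.co.exists_fix hc0 hk4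
  obtain ⟨k, rfl⟩ := S.theta_surjective s
  refine ⟨k, fun a => ?_⟩
  rw [col, col, S.conj_mb k (col_ne hw a) (S.col_iso hww a), hs, Fusion.SUData.uT_zero, one_mul, uInd_apply, hw4]
  have hne : ((a, 0, ν⁻¹ • w) : E6 F) ≠ 0 := col_ne (smul_ne_zero (inv_ne_zero hν) hw) a
  refine (S.mb_eq_iff hne ?_ (col_ne hw _) (S.col_iso hww _)).2 ⟨ν⁻¹, inv_ne_zero hν, ?_⟩
  · simp [ext6, uExt, (hW).smul_left, (hW).smul_right, hww]
  · simp [Prod.smul_mk, inv_mul_cancel_left₀ hν]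

theorem exists_mk_of_phi {x : G} (hx : x ∈ nb D d₁) (hc : Commute x d₂) (a : F)
    (h : S.phi ⟨x, mem_Kp.2 ⟨hx.2.2.symm, hc⟩⟩ = S.phi ⟨S.col a w, S.mk_Kp hw hww a⟩) :
    ∃ a', x = S.col a' w := by
  obtain ⟨p, hp, hpp, h21, rfl⟩ := S.exists_mb hx hc
  obtain ⟨v, hv⟩ := exists_pair_value hF hw 1
  have hv' : β v w = 1 := by rw [← (hW).symm, hv, map_one]
  have h' := LinearEquiv.congr_fun (congrArg Subtype.val (S.phi_eq_iff.1 h)) v
  rw [S.phi_mb hp hpp h21, show (⟨S.col a w, S.mk_Kp hw hww a⟩ : Kp d₁ d₂) =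
    ⟨S.mb (a, 0, w), S.mb_mem_Kp (col_ne hw a) (S.col_iso hww a) rfl⟩ from rfl,
    S.phi_mb (col_ne hw a) (S.col_iso hww a) rfl, add_right_inj] at h'
  simp only [hv', one_smul] at h'
  have hμ : β v p.2.2 ≠ 0 := fun e => hw (by rw [← h', e, zero_smul])
  refine ⟨β v p.2.2 * p.1, (S.mb_eq_iff hp hpp (col_ne hw _) (S.col_iso hww _)).2
    ⟨(β v p.2.2)⁻¹, inv_ne_zero hμ, ?_⟩⟩
  obtain ⟨x, y, z⟩ := p
  simp only at h21 h' hμ ⊢
  subst h21
  simp only [Prod.smul_mk, smul_eq_mul, Prod.mk.injEq, mul_zero, inv_mul_cancel_left₀ hμ, true_and]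
  rw [← h', smul_smul, inv_mul_cancel₀ hμ, one_smul]

omit hw hww

theorem phi_twice {c : G} (hc : c ∈ Cp d₁ d₂) (hsw : c * d₁ * c⁻¹ = d₂ ∧ c * d₂ * c⁻¹ = d₁)
    (htriv : ∀ k : Kp d₁ d₂, S.phi ⟨c * k * c⁻¹, S.conj_mem_Kp hc k.2⟩ = S.phi k) :
    ∃ h2 : c * c ∈ Kp d₁ d₂, S.phi ⟨c * c, h2⟩ = 1 := by
  have e1 : c * c * d₁ * (c * c)⁻¹ = d₁ := by
    rw [show c * c * d₁ * (c * c)⁻¹ = c * (c * d₁ * c⁻¹) * c⁻¹ by group, hsw.1, hsw.2]
  have e2 : c * c * d₂ * (c * c)⁻¹ = d₂ := by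
    rw [show c * c * d₂ * (c * c)⁻¹ = c * (c * d₂ * c⁻¹) * c⁻¹ by group, hsw.2, hsw.1]
  have h2 : c * c ∈ Kp d₁ d₂ := mem_Kp.2 ⟨mul_inv_eq_iff_eq_mul.1 e1, mul_inv_eq_iff_eq_mul.1 e2⟩
  refine ⟨h2, ?_⟩
  have hz : S.phi ⟨c * c, h2⟩ ∈ Subgroup.center (Cfsg.PSU 4 F 2) := Subgroup.mem_center_iff.2 fun y => by
    obtain ⟨k, rfl⟩ := S.phi_surjective y
    have h := (htriv ⟨c * k * c⁻¹, S.conj_mem_Kp hc k.2⟩).trans (htriv k)
    have he : (⟨c * (c * k * c⁻¹) * c⁻¹, S.conj_mem_Kp hc (S.conj_mem_Kp hc k.2)⟩ : Kp d₁ d₂) =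
        ⟨c * c, h2⟩ * k * (⟨c * c, h2⟩ : Kp d₁ d₂)⁻¹ :=
      Subtype.ext (by simp [mul_assoc])
    rw [show S.phi ⟨c * (c * k * c⁻¹) * c⁻¹, _⟩ = _ from congrArg S.phi he, map_mul, map_mul, map_inv,
      mul_inv_eq_iff_eq_mul] at h
    exact h.symm
  rwa [center_four hF, Subgroup.mem_bot] at hz

include hw hww

/-- Two members of a column cannot both be fixed by an element exchanging the pair. -/
theorem line_contra {c : G} (hc0 : Commute c (S.col 0 w))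
    (hsw : c * d₁ * c⁻¹ = d₂ ∧ c * d₂ * c⁻¹ = d₁) {a a' : F} (ha : a ≠ 0) (ha' : a' ≠ 0)
    (hfa : Commute c (S.col a w)) (hfa' : Commute c (S.col a' w)) : a = a' := by
  have hX := S.hX.toCtx
  set b := S.col 0 w with hbdef
  have hbD : b ∈ D := (S.mk_nb hw hww 0).1
  obtain ⟨Cb⟩ := S.hX.chart b hbD
  have n1 : d₁ ∈ nb D b := ⟨S.h1, (S.mk_nb hw hww 0).2.1.symm, (S.mk_nb hw hww 0).2.2.symm⟩
  have n2 : d₂ ∈ nb D b := ⟨S.h2.1, (S.mk_nb_two hw hww 0).2.1.symm, (S.mk_nb_two hw hww 0).2.2.symm⟩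
  have nm : ∀ t, t ≠ 0 → S.col t w ∈ nb D b := fun t ht =>
    ⟨(S.mk_nb hw hww t).1, fun e => ht (S.mk_inj hw hww e), S.mk_commute hw hww 0 t⟩
  have h := hermSpace_std (card' hF) 6
  set p := Cb.pt n1 with hpdef
  set q := Cb.pt n2 with hqdef
  have hqp : Cfsg.hermForm 6 F 2 q p = 0 := (Cb.commute_iff hF hX n2 n1 hbD).1 S.h2.2.2.symm
  have hind : ∀ t : F, q ≠ t • p := fun t e => S.h2.2.1 <| by
    have ht : t ≠ 0 := fun e0 => (Cb.isPt n2).1 (by rw [← hqdef, e, e0, zero_smul])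
    refine Cb.eq_of_ψ_eq hF hX n2 n1 hbD ?_
    rw [Cb.ψ_inc, Cb.ψ_inc, ← hqdef, e]
    exact PSUSix.T_smul hF (Cb.isPt n1).2 ht
  obtain ⟨e, f, c₀, hfr, he0, hq⟩ :=
    exists_frame_orth hF (Cb.isPt n1).1 (Cb.isPt n1).2 (Cb.isPt n2).2 hqp hind
  rw [← hpdef, ← hqdef] at hq
  rw [← hpdef] at he0
  -- the point of a member of the column lies on the line of the pair
  have hline : ∀ t (ht : t ≠ 0), ∃ x y : F, Cb.pt (nm t ht) = x • p + y • q := by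
    intro t ht
    set r := Cb.pt (nm t ht) with hr
    have hrp : Cfsg.hermForm 6 F 2 r p = 0 :=
      (Cb.commute_iff hF hX (nm t ht) n1 hbD).1 (mem_Kp.1 (S.mk_Kp hw hww t)).1
    have hrq : Cfsg.hermForm 6 F 2 r q = 0 :=
      (Cb.commute_iff hF hX (nm t ht) n2 hbD).1 (mem_Kp.1 (S.mk_Kp hw hww t)).2
    have hcol : ∀ u u' : Fin 6 → F, IsPt u → Cfsg.hermForm 6 F 2 u p = 0 → Cfsg.hermForm 6 F 2 u q = 0 →
        Cfsg.hermForm 6 F 2 p u' = 0 → Cfsg.hermForm 6 F 2 q u' = 0 → Cfsg.hermForm 6 F 2 u u' ≠ 0 →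
        Cfsg.hermForm 6 F 2 r u = 0 := by
      intro u u' hu hup huq hpu' hqu' huu'
      obtain ⟨z, hz, ez⟩ := Cb.onto u hu
      rw [Cb.ψ_inc hz] at ez
      obtain ⟨α, hα⟩ := PSUSix.T_line hF (Cb.isPt hz).1 (Cb.isPt hz).2 hu.2 ez
      have hα0 : α ≠ 0 := fun e0 => (Cb.isPt hz).1 (by rw [hα, e0, zero_smul])
      have hzd : ∀ {d : G} (hd : d ∈ nb D b), Cfsg.hermForm 6 F 2 u (Cb.pt hd) = 0 →
          Cfsg.hermForm 6 F 2 (Cb.pt hd) u' = 0 → Commute z d ∧ z ≠ d := by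
        intro d hd h1 h2
        refine ⟨(Cb.commute_iff hF hX hz hd hbD).2 (by rw [hα, h.smul_left, h1, mul_zero]), ?_⟩
        rintro rfl
        have e2 : Cb.pt hd = α • u := hα
        rw [e2, h.smul_left, mul_eq_zero] at h2
        exact huu' (h2.resolve_left hα0)
      obtain ⟨c1, z1⟩ := hzd n1 hup hpu'
      obtain ⟨c2, -⟩ := hzd n2 huq hqu'
      have hz1 : z ∈ nb D d₁ := ⟨hz.1, z1, c1.symm⟩
      obtain ⟨r', hr', hrr', hr21, rfl⟩ := S.exists_mb hz1 c2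
      have h0 := (S.commute_mb hr' hrr' (col_ne hw 0) (S.col_iso hww 0)).1 hz.2.2.symm
      have ht' : Commute (S.mb r') (S.col t w) :=
        (S.commute_mb hr' hrr' (col_ne hw t) (S.col_iso hww t)).2 (by
          simpa [ext6, uExt, hr21] using h0)
      have := (Cb.commute_iff hF hX (nm t ht) hz hbD).1 ht'.symm
      rw [hα, h.smul_right] at this
      exact (mul_eq_zero.1 this).resolve_left (fun e0 => hα0 ((map_eq_zero _).1 e0))
    obtain ⟨⟨x, y⟩, hxy⟩ := (hfr.bijective hF).2 r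
    have ce : ∀ i, Cfsg.hermForm 6 F 2 r (e i) = y i := fun i => hxy ▸ hfr.coef_e hF (x, y) i
    have cf : ∀ i, Cfsg.hermForm 6 F 2 r (f i) = x i := fun i => hxy ▸ hfr.coef_f hF (x, y) i
    have hy0 : y 0 = 0 := by rw [← ce 0, he0, hrp]
    have hy1 : y 1 = 0 := by
      have := hrq
      rw [hq, h.add_right, h.smul_right, hrp, mul_zero, zero_add, ce 1] at this
      exact this
    have hy2 : y 2 = 0 := by
      rw [← ce 2]
      refine hcol (e 2) (f 2) ⟨hfr.ne_zero_left hF 2, hfr.ee 2 2⟩ ?_ ?_ ?_ ?_ ?_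
      · rw [← he0]; exact hfr.ee 2 0
      · rw [hq, h.add_right, h.smul_right, ← he0, hfr.ee, hfr.ee, mul_zero, add_zero]
      · rw [← he0, hfr.ef]; simp
      · rw [hq, h.add_left, h.smul_left, ← he0, hfr.ef, hfr.ef]; simp
      · rw [hfr.ef]; simp
    have hx2 : x 2 = 0 := by
      rw [← cf 2]
      refine hcol (f 2) (e 2) ⟨hfr.ne_zero_right hF 2, hfr.ff 2 2⟩ ?_ ?_ ?_ ?_ ?_
      · rw [← he0, hfr.fe hF]; simp
      · rw [hq, h.add_right, h.smul_right, ← he0, hfr.fe hF, hfr.fe hF]; simp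
      · rw [← he0, hfr.ee]
      · rw [hq, h.add_left, h.smul_left, ← he0, hfr.ee, hfr.ee, mul_zero, add_zero]
      · rw [hfr.fe hF]; simp
    refine ⟨x 0 + x 1 * c₀, x 1, ?_⟩
    have he1 : e 1 = q + c₀ • p := by
      rw [hq, add_comm (c₀ • p) (e 1), add_assoc, PSUSix.vec_add_self hF, add_zero]
    simp only [← hxy, cmb, hy0, hy1, hy2, hx2, he0, he1]
    module
  -- `c` seen in the chart
  have hcmem : c ∈ Subgroup.closure (nb D b) := by
    rw [← S.cent b hbD]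
    exact Subgroup.mem_centralizer_singleton_iff.2 hc0.eq
  obtain ⟨s, hs⟩ := proj_surjective (Cb.ψ ⟨c, hcmem⟩)
  have himg : ∀ {d d' : G} (hd : d ∈ nb D b) (hd' : d' ∈ nb D b), c * d * c⁻¹ = d' →
      ∃ α : F, act s (Cb.pt hd) = α • Cb.pt hd' := by
    intro d d' hd hd' e
    have : PSUSix.tv (act s (Cb.pt hd)) = PSUSix.tv (Cb.pt hd') := by
      rw [← Cb.ψ_inc hd', show inc hd' = (⟨c, hcmem⟩ : ↥(Subgroup.closure (nb D b))) * inc hd *
        (⟨c, hcmem⟩ : ↥(Subgroup.closure (nb D b)))⁻¹ from Subtype.ext (by simp [inc, e]),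
        map_mul, map_mul, map_inv, ← hs, Cb.ψ_inc]
      exact (PSUSix.conj_T hF s (Cb.isPt hd).2).symm
    exact PSUSix.T_line hF (act_ne_zero s (Cb.isPt hd).1) ((act_form s _ _).trans (Cb.isPt hd).2)
      (Cb.isPt hd').2 this
  obtain ⟨α, hα⟩ := himg n1 n2 hsw.1
  obtain ⟨γ, hγ⟩ := himg n2 n1 hsw.2
  have hα0 : α ≠ 0 := fun e0 => act_ne_zero s (Cb.isPt n1).1 (by rw [hα, e0, zero_smul])
  have hrel : ∀ t (ht : t ≠ 0), Commute c (S.col t w) → ∀ x y : F, Cb.pt (nm t ht) = x • p + y • q →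
      x * x * α = y * y * γ ∧ y ≠ 0 := by
    intro t ht hct x y hxy
    obtain ⟨μ, hμ⟩ := himg (nm t ht) (nm t ht) (by rw [hct.eq, mul_inv_cancel_right])
    rw [hxy, PSUSix.act_add hF, PSUSix.act_smul hF, PSUSix.act_smul hF, hpdef, hqdef, hα, hγ,
      ← hpdef, ← hqdef, smul_smul, smul_smul, smul_add, smul_smul, smul_smul] at hμ
    have key : ∀ u v : F, u • p + v • q = 0 → u = 0 ∧ v = 0 := by
      intro u v huv
      by_cases hv : v = 0
      · rw [hv, zero_smul, add_zero] at huv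
        exact ⟨(smul_eq_zero.1 huv).resolve_right (Cb.isPt n1).1, hv⟩
      · exfalso
        refine hind (-(v⁻¹ * u)) ?_
        have : v • q = -(u • p) := eq_neg_of_add_eq_zero_right huv
        calc q = v⁻¹ • (v • q) := (inv_smul_smul₀ hv q).symm
          _ = _ := by rw [this]; module
    obtain ⟨k1, k2⟩ := key (y * γ - μ * x) (x * α - μ * y) (by
      rw [sub_smul, sub_smul]; rw [← sub_eq_zero] at hμ; rw [← hμ]; abel)
    refine ⟨by linear_combination x * k2 - y * k1, fun hy => ?_⟩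
    rw [hy, mul_zero, sub_zero, mul_eq_zero] at k2
    exact (Cb.isPt (nm t ht)).1 (by rw [hxy, hy, k2.resolve_right hα0, zero_smul, zero_smul, add_zero])
  obtain ⟨x₁, y₁, h₁⟩ := hline a ha
  obtain ⟨x₂, y₂, h₂⟩ := hline a' ha'
  obtain ⟨r1, hy₁⟩ := hrel a ha hfa x₁ y₁ h₁
  obtain ⟨r2, hy₂⟩ := hrel a' ha' hfa' x₂ y₂ h₂
  have hsq : (x₁ * y₂ - y₁ * x₂) * (x₁ * y₂ - y₁ * x₂) = 0 := by
    have h3 : (x₁ * y₂) * (x₁ * y₂) * α = (y₁ * x₂) * (y₁ * x₂) * α := by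
      linear_combination y₂ * y₂ * r1 - y₁ * y₁ * r2
    have h4 := mul_right_cancel₀ hα0 h3
    linear_combination h4 + PSUSix.add_self' hF ((y₁ * x₂) * (y₁ * x₂) - x₁ * y₂ * (y₁ * x₂))
  have heq : x₁ * y₂ = y₁ * x₂ := sub_eq_zero.1 (mul_self_eq_zero.1 hsq)
  refine S.mk_inj hw hww (Cb.eq_of_ψ_eq hF hX (nm a ha) (nm a' ha') hbD ?_)
  rw [Cb.ψ_inc, Cb.ψ_inc, h₁, h₂]
  have hx : x₁ • p + y₁ • q = (y₁ / y₂) • (x₂ • p + y₂ • q) := by
    rw [smul_add, smul_smul, smul_smul, div_mul_cancel₀ _ hy₂,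
      show y₁ / y₂ * x₂ = x₁ by field_simp; linear_combination -heq]
  rw [hx]
  exact PSUSix.T_smul hF (h₂ ▸ (Cb.isPt (nm a' ha')).2) (div_ne_zero hy₁ hy₂)

theorem not_fixed_swap {c : G} (hc : c ∈ Cp d₁ d₂) (hsw : c * d₁ * c⁻¹ = d₂ ∧ c * d₂ * c⁻¹ = d₁)
    (htriv : ∀ k : Kp d₁ d₂, S.phi ⟨c * k * c⁻¹, S.conj_mem_Kp hc k.2⟩ = S.phi k)
    (hfix : c * S.col 0 w * c⁻¹ = S.col 0 w)
    (htor : ∀ ν : F, ν ≠ 0 → ∃ k ∈ suV (card' hF) 4, k w = ν • w) : False := by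
  have hperm : ∀ a, ∃ a', c * S.col a w * c⁻¹ = S.col a' w := fun a => by
    have hm := S.mk_nb hw hww a
    have hx : c * S.col a w * c⁻¹ ∈ nb D d₁ := by
      have := conj_mem_nb S.hX.conj c (S.mk_nb_two hw hww a)
      rwa [hsw.2] at this
    have hk := S.conj_mem_Kp hc (S.mk_Kp hw hww a)
    exact S.exists_mk_of_phi hw hww hx (mem_Kp.1 hk).2 a (htriv ⟨_, S.mk_Kp hw hww a⟩)
  choose π hπ using hperm
  have hπ0 : π 0 = 0 := S.mk_inj hw hww ((hπ 0).symm.trans hfix)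
  have hμ0 : π 1 ≠ 0 := fun e => one_ne_zero <| S.mk_inj hw hww (a := 1) (a' := 0) <| by
    have : c * S.col 1 w * c⁻¹ = c * S.col 0 w * c⁻¹ := by rw [hπ 1, e, hfix]
    exact mul_left_cancel (mul_right_cancel this)
  have hlin : ∀ ν : F, ν ≠ 0 → π ν = ν * π 1 := by
    intro ν hν
    obtain ⟨k4, hk4, hw4⟩ := htor ν⁻¹ (inv_ne_zero hν)
    obtain ⟨k, hk⟩ := S.exists_torus_el hw hww hν hk4 hw4
    set o : Kp d₁ d₂ := ⟨c * k * c⁻¹, S.conj_mem_Kp hc k.2⟩ * k⁻¹ with ho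
    have ho1 : S.phi o = 1 := by rw [ho, map_mul, map_inv, htriv k, mul_inv_cancel]
    obtain ⟨w', c', hc', eo⟩ := S.rad_data ho1
    have hconj : ∀ a, (o : G) * S.col (ν * a) w * (o : G)⁻¹ = c * k * c⁻¹ * S.col a w * (c * k * c⁻¹)⁻¹ := by
      intro a
      rw [← hk a]
      simp [ho, mul_assoc]
    have hcc : c⁻¹ * S.col 0 w * c = S.col 0 w := by
      conv_lhs => rw [← hfix]
      group
    have h0 : β w w' = 0 := by
      have h1 := hconj 0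
      rw [S.conj_mk_rad hw hww eo, mul_zero,
        show c * k * c⁻¹ * S.col 0 w * (c * k * c⁻¹)⁻¹ = c * (k * (c⁻¹ * S.col 0 w * c) * (k : G)⁻¹) * c⁻¹ by group,
        hcc, hk 0, mul_zero, hfix] at h1
      have h2 := S.mk_inj hw hww h1
      linear_combination -h2
    have h1 := hconj (π 1)
    rw [S.conj_mk_rad hw hww eo, h0, sub_zero, ← hπ 1,
      show c * k * c⁻¹ * (c * S.col 1 w * c⁻¹) * (c * k * c⁻¹)⁻¹ = c * (k * S.col 1 w * (k : G)⁻¹) * c⁻¹ by group,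
      hk 1, mul_one, hπ ν] at h1
    exact (S.mk_inj hw hww h1).symm
  obtain ⟨h2, hφ2⟩ := S.phi_twice hc hsw htriv
  obtain ⟨w', c', hc', e2⟩ := S.rad_data hφ2
  have h0 : β w w' = 0 := by
    have h1 : c * c * S.col 0 w * (c * c)⁻¹ = S.col (0 - β w w') w := S.conj_mk_rad hw hww e2 0
    rw [show c * c * S.col 0 w * (c * c)⁻¹ = c * (c * S.col 0 w * c⁻¹) * c⁻¹ by group, hfix, hfix] at h1
    have := S.mk_inj hw hww h1
    linear_combination this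
  have hμμ : π 1 * π 1 = 1 := by
    have h1 : c * c * S.col 1 w * (c * c)⁻¹ = S.col (1 - β w w') w := S.conj_mk_rad hw hww e2 1
    rw [show c * c * S.col 1 w * (c * c)⁻¹ = c * (c * S.col 1 w * c⁻¹) * c⁻¹ by group, hπ 1, hπ (π 1),
      h0, sub_zero] at h1
    have := S.mk_inj hw hww h1
    rwa [hlin _ hμ0] at this
  have hμ1 : π 1 = 1 := sub_eq_zero.1 <| mul_self_eq_zero.1
    (show (π 1 - 1) * (π 1 - 1) = 0 by
      linear_combination hμμ + PSUSix.add_self' hF (1 - π 1))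
  obtain ⟨ν, hν0, hν1⟩ : ∃ ν : F, ν ≠ 0 ∧ ν ≠ 1 := by
    by_contra! hall
    have : Fintype.card F ≤ 2 := by
      classical
      calc Fintype.card F = (Finset.univ : Finset F).card := rfl
        _ ≤ ({0, 1} : Finset F).card := Finset.card_le_card fun a _ => by
          rcases em (a = 0) with h | h
          · simp [h]
          · simp [hall a h]
        _ ≤ 2 := Finset.card_insert_le _ _
    have := hF
    omega
  refine hν1 (S.line_contra hw hww (mul_inv_eq_iff_eq_mul.1 hfix) hsw hν0 one_ne_zero ?_ ?_)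
  · exact mul_inv_eq_iff_eq_mul.1 (by rw [hπ ν, hlin ν hν0, hμ1, mul_one])
  · exact mul_inv_eq_iff_eq_mul.1 (by rw [hπ 1, hμ1])

omit hw hww

theorem mem_Kp_of_trivial {c : G} (hc : c ∈ Cp d₁ d₂)
    (htriv : ∀ k : Kp d₁ d₂, S.phi ⟨c * k * c⁻¹, S.conj_mem_Kp hc k.2⟩ = S.phi k) : c ∈ Kp d₁ d₂ := by
  rcases S.cases hc with h | hsw
  · exact h
  exfalso
  obtain ⟨w, hw, hww, htor⟩ := exists_torus hF
  have hx : c * S.col 0 w * c⁻¹ ∈ nb D d₁ := by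
    have := conj_mem_nb S.hX.conj c (S.mk_nb_two hw hww 0)
    rwa [hsw.2] at this
  obtain ⟨a₀, ha₀⟩ := S.exists_mk_of_phi hw hww hx
    (mem_Kp.1 (S.conj_mem_Kp hc (S.mk_Kp hw hww 0))).2 0 (htriv ⟨_, S.mk_Kp hw hww 0⟩)
  obtain ⟨w', hw'⟩ := exists_pair_value hF hw a₀
  obtain ⟨c', hc'⟩ := (hW).exists_fill w'
  obtain ⟨k, hk, ek⟩ := S.exists_rad hc'
  have hkc : (k : G) * c ∈ Cp d₁ d₂ := mul_mem (Kp_le_Cp _ _ k.2) hc
  refine S.not_fixed_swap hw hww hkc ⟨?_, ?_⟩ (fun l => ?_) ?_ htor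
  · rw [show (k : G) * c * d₁ * ((k : G) * c)⁻¹ = k * (c * d₁ * c⁻¹) * (k : G)⁻¹ by group, hsw.1]
    exact mul_inv_eq_iff_eq_mul.2 (mem_Kp.1 k.2).2
  · rw [show (k : G) * c * d₂ * ((k : G) * c)⁻¹ = k * (c * d₂ * c⁻¹) * (k : G)⁻¹ by group, hsw.2]
    exact mul_inv_eq_iff_eq_mul.2 (mem_Kp.1 k.2).1
  · have : (⟨(k : G) * c * l * ((k : G) * c)⁻¹, S.conj_mem_Kp hkc l.2⟩ : Kp d₁ d₂) =
        k * ⟨c * l * c⁻¹, S.conj_mem_Kp hc l.2⟩ * k⁻¹ := Subtype.ext (by simp [mul_assoc])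
    rw [this, map_mul, map_mul, map_inv, hk, htriv, one_mul, inv_one, mul_one]
  · rw [show (k : G) * c * S.col 0 w * ((k : G) * c)⁻¹ = k * (c * S.col 0 w * c⁻¹) * (k : G)⁻¹ by group, ha₀,
      S.conj_mk_rad hw hww ek, hw', sub_self]

end Setup

end Cfsg.Agent.Lib.FischerPair
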