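import Cfsg.Agent.Lib.FischerPair.Model

/-!
# Elementary abelian subgroups of `SU₄(2)` fixing a trace-orthogonal set
-/

set_option autoImplicit false
set_option linter.style.haveILetI false

namespace Cfsg.Agent.Lib.FischerPair

open Cfsg Cfsg.Agent.Lib.Classical Cfsg.Agent.Lib.MinIndexUnitary
open Cfsg.Agent.Lib.ThreeTransp.PSUSix (card')

variable {F : Type} [Field F] [Fintype F] (hF : Fintype.card F = 4)

local notation "W" => (Fin 4 → F)
local notation "β" => Cfsg.hermForm 4 F 2
local notation "σ" => Forms.qPowHom (card' hF)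
local notation "hW" => hermSpace_std (card' hF) 4

include hF

theorem iso_of_mem {g : (Fin 4 → F) ≃ₗ[F] (Fin 4 → F)} (hg : g ∈ suV (card' hF) 4) (x y : W) :
    β (g x) (g y) = β x y := uGroup_le _ hg x y

/-- A totally isotropic plane, as a set of vectors. -/
structure IsLag (L : AddSubgroup W) : Prop where
  orth : ∀ x ∈ L, ∀ y ∈ L, β x y = 0
  smul : ∀ (a : F), ∀ x ∈ L, a • x ∈ L
  card : Nat.card L = 16

theorem exists_left_value {u : W} (hu : u ≠ 0) : ∃ v : W, β v u = 1 := by
  obtain ⟨v, hv⟩ := exists_pair_value hF hu 1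
  exact ⟨v, by rw [← (hW).symm, hv, map_one]⟩

theorem exists_dual {u₁ u₂ : W} (h1 : u₁ ≠ 0) (hind : ∀ t : F, u₂ ≠ t • u₁) :
    ∃ (v₁ v₂ : W) (t : F), β v₁ u₁ = 1 ∧ β v₁ (u₂ - t • u₁) = 0 ∧ β v₂ (u₂ - t • u₁) = 1 := by
  obtain ⟨v₁, hv₁⟩ := exists_left_value hF h1
  refine ⟨v₁, ?_⟩
  have hne : u₂ - σ (β v₁ u₂) • u₁ ≠ 0 := sub_ne_zero.2 (hind _)
  obtain ⟨v₂, hv₂⟩ := exists_left_value hF hne
  refine ⟨v₂, _, hv₁, ?_, hv₂⟩
  rw [(hW).sub_right, (hW).smul_right, (hW).invol, hv₁, mul_one, sub_self]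

/-- The common perpendicular of two independent vectors. -/
theorem card_perp_two {u₁ u₂ : W} (h1 : u₁ ≠ 0) (hind : ∀ t : F, u₂ ≠ t • u₁) :
    Nat.card {v : W // β v u₁ = 0 ∧ β v u₂ = 0} = 16 := by
  obtain ⟨v₁, v₂, t, e1, e2, e3⟩ := exists_dual hF h1 hind
  set u := u₂ - t • u₁ with hu
  let Φ : W →+ F × F :=
    AddMonoidHom.mk' (fun v => (β v u₁, β v u)) fun a b => by simp [(hW).add_left]
  have hsurj : Function.Surjective Φ := fun ⟨a, b⟩ => by
    refine ⟨b • v₂ + (a - b * β v₂ u₁) • v₁, ?_⟩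
    show ((β _ u₁, β _ u) : F × F) = (a, b)
    simp [(hW).add_left, (hW).smul_left, e1, e2, e3]
  have h := Φ.ker.card_mul_index
  rw [AddSubgroup.index_ker, AddMonoidHom.range_eq_top_of_surjective _ hsurj, AddSubgroup.card_top] at h
  have hk : Nat.card Φ.ker = 16 := by
    simp [hF, Nat.card_eq_fintype_card] at h ⊢
    omega
  rw [← hk]
  refine Nat.card_congr (Equiv.subtypeEquivRight fun v => ?_)
  show _ ↔ ((β v u₁, β v u) : F × F) = 0
  rw [Prod.mk_eq_zero, hu, (hW).sub_right, (hW).smul_right]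
  constructor
  · rintro ⟨a, b⟩; exact ⟨a, by rw [a, b, mul_zero, sub_zero]⟩
  · rintro ⟨a, b⟩; exact ⟨a, by rwa [a, mul_zero, sub_zero] at b⟩

namespace IsLag

variable {L : AddSubgroup (Fin 4 → F)}

theorem exists_basis (hL : IsLag L) : ∃ u₁ ∈ L, ∃ u₂ ∈ L, u₁ ≠ 0 ∧ ∀ t : F, u₂ ≠ t • u₁ := by
  classical
  obtain ⟨u₁, hu₁, h1⟩ : ∃ u ∈ L, u ≠ 0 := by
    by_contra! h
    have : L = ⊥ := (AddSubgroup.eq_bot_iff_forall L).2 h
    have := hL.card
    simp_all
  refine ⟨u₁, hu₁, ?_⟩
  by_contra! h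
  have hle : Nat.card L ≤ Nat.card F := Nat.card_le_card_of_surjective (fun t : F => (⟨t • u₁, hL.smul t _ hu₁⟩ : L))
    fun ⟨x, hx⟩ => by
      obtain ⟨t, ht⟩ := h x hx h1
      exact ⟨t, Subtype.ext ht.symm⟩
  rw [hL.card, Nat.card_eq_fintype_card, hF] at hle
  norm_num at hle

theorem mem_of_perp (hL : IsLag L) {v : Fin 4 → F} (hv : ∀ u ∈ L, Cfsg.hermForm 4 F 2 v u = 0) : v ∈ L := by
  obtain ⟨u₁, hu₁, u₂, hu₂, h1, hind⟩ := (hL.exists_basis hF)
  have hsub : (L : Set (Fin 4 → F)) ⊆ {v | Cfsg.hermForm 4 F 2 v u₁ = 0 ∧ Cfsg.hermForm 4 F 2 v u₂ = 0} :=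
    fun x hx => ⟨hL.orth x hx _ hu₁, hL.orth x hx _ hu₂⟩
  have he := Set.eq_of_subset_of_ncard_le hsub (by
    rw [← Nat.card_coe_set_eq, ← Nat.card_coe_set_eq, SetLike.coe_sort_coe, hL.card]
    exact (card_perp_two hF h1 hind).le) (Set.toFinite _)
  show v ∈ (L : Set (Fin 4 → F))
  rw [he]
  exact ⟨hv _ hu₁, hv _ hu₂⟩

end IsLag

theorem add_self_vec (x : W) : x + x = 0 := funext fun _ => ThreeTransp.PSUSix.add_self' hF _

theorem shift_form {g : (Fin 4 → F) ≃ₗ[F] (Fin 4 → F)} (hg : g ∈ suV (card' hF) 4) (x : W) {y : W}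
    (hy : g y = y) : β (g x + x) y = 0 := by
  rw [(hW).add_left]
  conv_lhs => arg 1; rw [← hy]
  rw [iso_of_mem hF hg]
  exact ThreeTransp.PSUSix.add_self' hF _

/-- At most sixteen elements fix a totally isotropic plane pointwise. -/
theorem lag_fix_card {L : AddSubgroup W} (hL : IsLag L) (A : Subgroup ((Fin 4 → F) ≃ₗ[F] (Fin 4 → F)))
    (hA : A ≤ suV (card' hF) 4) (hfix : ∀ a ∈ A, ∀ u ∈ L, a u = u) : Nat.card A ≤ 16 := by
  classical
  obtain ⟨u₁, hu₁, u₂, hu₂, h1, hind⟩ := (hL.exists_basis hF)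
  obtain ⟨v₁, v₂, t, e1, e2, e3⟩ := exists_dual hF h1 hind
  set u := u₂ - t • u₁ with hu
  have huL : u ∈ L := L.sub_mem hu₂ (hL.smul t _ hu₁)
  have himg : ∀ a ∈ A, ∀ x, a x + x ∈ L := fun a ha x =>
    hL.mem_of_perp hF fun y hy => shift_form hF (hA ha) x (hfix a ha y hy)
  have hrel : ∀ a ∈ A, ∀ x y, β (a x + x) y + β x (a y + y) = 0 := by
    intro a ha x y
    have h := hL.orth _ (himg a ha x) _ (himg a ha y)
    simp only [(hW).add_left, (hW).add_right, iso_of_mem hF (hA ha)] at h ⊢
    linear_combination h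
  have hdiag : ∀ a ∈ A, ∀ x, β (a x + x) x = 0 ∨ β (a x + x) x = 1 := by
    intro a ha x
    have h := hrel a ha x x
    rw [← (hW).symm (a x + x) x, Forms.qPowHom_apply] at h
    have : β (a x + x) x * (1 + β (a x + x) x) = 0 := by linear_combination h
    rcases mul_eq_zero.1 this with e | e
    · exact Or.inl e
    · exact Or.inr (by linear_combination e - ThreeTransp.PSUSix.add_self' hF (1 : F))
  let S2 := {c : F // c = 0 ∨ c = 1}
  let f : A → S2 × S2 × F := fun a =>
    (⟨_, hdiag a a.2 v₁⟩, ⟨_, hdiag a a.2 v₂⟩, β (a.1 v₁ + v₁) v₂)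
  have hf : Function.Injective f := by
    intro a b hab
    simp only [f, Prod.mk.injEq] at hab
    obtain ⟨k1', k2', k3⟩ := hab
    have k1 := congrArg Subtype.val k1'
    have k2 := congrArg Subtype.val k2'
    simp only at k1 k2
    have k4 : β (a.1 v₂ + v₂) v₁ = β (b.1 v₂ + v₂) v₁ := by
      have r1 := hrel a a.2 v₁ v₂
      have r2 := hrel b b.2 v₁ v₂
      rw [← (hW).symm (a.1 v₂ + v₂) v₁] at r1
      rw [← (hW).symm (b.1 v₂ + v₂) v₁] at r2
      have : σ (β (a.1 v₂ + v₂) v₁) = σ (β (b.1 v₂ + v₂) v₁) := by linear_combination r1 - r2 - k3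
      exact (σ).injective this
    have key : ∀ z, z ∈ L → β z v₁ = 0 → β z v₂ = 0 → z = 0 := by
      intro z hz hz1 hz2
      have hperp : ∀ y : W, β y z = 0 := by
        intro y
        have hy : y - β y u • v₂ - (β y u₁ - β y u * β v₂ u₁) • v₁ ∈ L := hL.mem_of_perp hF fun l hl => by
          -- perpendicular to `u₁` and to `u`, hence to the plane
          obtain ⟨⟨l', hl'⟩, rfl⟩ : ∃ l' : L, (l' : W) = l := ⟨⟨l, hl⟩, rfl⟩
          have hspan : ∃ a b : F, l' = a • u₁ + b • u := by
            let g : F × F → L := fun p => ⟨p.1 • u₁ + p.2 • u, L.add_mem (hL.smul _ _ hu₁) (hL.smul _ _ huL)⟩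
            have hg : Function.Injective g := by
              rintro ⟨a, b⟩ ⟨a', b'⟩ h
              have h' : a • u₁ + b • u = a' • u₁ + b' • u := congrArg Subtype.val h
              have h1' := congrArg (fun w => β w v₁) h'
              have h2' := congrArg (fun w => β w v₂) h'
              simp only [(hW).add_left, (hW).smul_left, ← (hW).symm v₁, ← (hW).symm v₂, e1, e2, e3, map_one,
                map_zero, mul_one, mul_zero, add_zero] at h1' h2'
              have hb : b = b' := by
                rw [h1'] at h2'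
                exact add_left_cancel h2'
              exact Prod.ext h1' hb
            have hbij := (Nat.bijective_iff_injective_and_card g).2 ⟨hg, by
              rw [hL.card, Nat.card_prod, Nat.card_eq_fintype_card, hF]⟩
            obtain ⟨⟨a, b⟩, hab⟩ := hbij.2 ⟨l', hl'⟩
            exact ⟨a, b, (congrArg Subtype.val hab).symm⟩
          obtain ⟨a, b, rfl⟩ := hspan
          simp [(hW).sub_left, (hW).add_right, (hW).smul_left, (hW).smul_right, e1, e2, e3]
          ring
        have h0 := hL.orth _ hy _ hz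
        simp only [(hW).sub_left, (hW).smul_left] at h0
        rw [← (hW).symm z v₁, ← (hW).symm z v₂, hz1, hz2, map_zero] at h0
        linear_combination h0
      refine (hW).nondeg z fun y => ?_
      first
        | exact hperp y
        | rw [← (hW).symm, hperp, map_zero]
    have d1 : a.1 v₁ = b.1 v₁ := by
      have := key _ (L.sub_mem (himg a a.2 v₁) (himg b b.2 v₁))
        (by rw [(hW).sub_left, k1, sub_self]) (by rw [(hW).sub_left, k3, sub_self])
      rwa [add_sub_add_right_eq_sub, sub_eq_zero] at this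
    have d2 : a.1 v₂ = b.1 v₂ := by
      have := key _ (L.sub_mem (himg a a.2 v₂) (himg b b.2 v₂))
        (by rw [(hW).sub_left, k4, sub_self]) (by rw [(hW).sub_left, k2, sub_self])
      rwa [add_sub_add_right_eq_sub, sub_eq_zero] at this
    refine Subtype.ext (LinearEquiv.ext fun x => ?_)
    have hx : x - β x u • v₂ - (β x u₁ - β x u * β v₂ u₁) • v₁ ∈ L := by
      refine hL.mem_of_perp hF fun l hl => ?_
      have hsub : (L : Set W) ⊆ {v | β v u₁ = 0 ∧ β v u₂ = 0} :=
        fun y hy => ⟨hL.orth y hy _ hu₁, hL.orth y hy _ hu₂⟩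
      have he := Set.eq_of_subset_of_ncard_le hsub (by
        rw [← Nat.card_coe_set_eq, ← Nat.card_coe_set_eq, SetLike.coe_sort_coe, hL.card]
        exact (card_perp_two hF h1 hind).le) (Set.toFinite _)
      have hu2 : u₂ = u + t • u₁ := by rw [hu, sub_add_cancel]
      refine hL.orth _ ?_ _ hl
      show _ ∈ (L : Set W)
      rw [he]
      have p1 : β (x - β x u • v₂ - (β x u₁ - β x u * β v₂ u₁) • v₁) u₁ = 0 := by
        simp [(hW).sub_left, (hW).smul_left, e1]
      refine ⟨p1, ?_⟩
      rw [hu2, (hW).add_right, (hW).smul_right, p1, mul_zero, add_zero]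
      simp [(hW).sub_left, (hW).smul_left, e2, e3]
    set r := x - β x u • v₂ - (β x u₁ - β x u * β v₂ u₁) • v₁ with hr
    have hxr : x = r + β x u • v₂ + (β x u₁ - β x u * β v₂ u₁) • v₁ := by rw [hr]; module
    rw [hxr, map_add, map_add, map_add, map_add, map_smul, map_smul, map_smul, map_smul, hfix a a.2 r hx,
      hfix b b.2 r hx, d1, d2]
  refine (Nat.card_le_card_of_injective f hf).trans ?_
  have hS2 : Nat.card S2 = 2 := by
    rw [show S2 = ↥({0, 1} : Set F) from rfl, Nat.card_coe_set_eq, Set.ncard_pair zero_ne_one]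
  rw [Nat.card_prod, Nat.card_prod, hS2, Nat.card_eq_fintype_card, hF]

/-- Commuting involutions fixing an anisotropic vector are equal. -/
theorem aniso_fix_card (A : Subgroup ((Fin 4 → F) ≃ₗ[F] (Fin 4 → F))) (hA : A ≤ suV (card' hF) 4)
    (hsq : ∀ a ∈ A, a * a = 1) (hcomm : ∀ a ∈ A, ∀ b ∈ A, a * b = b * a) {m : W} (hm : β m m ≠ 0)
    (hfix : ∀ a ∈ A, a m = m) : Nat.card A ≤ 2 := by
  classical
  -- two orthogonal isotropic vectors orthogonal to `m` are dependent
  have hdep : ∀ p q : W, p ≠ 0 → β p p = 0 → β q q = 0 → β q p = 0 → β p m = 0 → β q m = 0 →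
      ∃ t : F, q = t • p := by
    intro p q hp hpp hqq hqp hpm hqm
    by_contra! hne
    let L : AddSubgroup W := (Submodule.span F ({p, q} : Set W)).toAddSubgroup
    have hmemL : ∀ x ∈ L, ∃ a b : F, a • p + b • q = x := fun x hx =>
      Submodule.mem_span_pair.1 hx
    have hpq : β p q = 0 := by rw [← (hW).symm, hqp, map_zero]
    have hL : IsLag L := by
      refine ⟨fun x hx y hy => ?_, fun a x hx => Submodule.smul_mem _ a hx, ?_⟩
      · obtain ⟨a, b, rfl⟩ := hmemL x hx
        obtain ⟨a', b', rfl⟩ := hmemL y hy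
        simp [(hW).add_left, (hW).add_right, (hW).smul_left, (hW).smul_right, hpp, hqq, hqp, hpq]
      · let g : F × F → L := fun v => ⟨v.1 • p + v.2 • q, Submodule.mem_span_pair.2 ⟨v.1, v.2, rfl⟩⟩
        have hg : Function.Bijective g := by
          constructor
          · rintro ⟨a, b⟩ ⟨a', b'⟩ h
            have h' : a • p + b • q = a' • p + b' • q := congrArg Subtype.val h
            have hb : b = b' := by
              by_contra hb
              refine hne ((b - b')⁻¹ * (a' - a)) ?_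
              rw [mul_smul, ← show (b - b') • q = (a' - a) • p by
                rw [sub_smul, sub_smul, sub_eq_sub_iff_add_eq_add, add_comm, h', add_comm], inv_smul_smul₀
                (sub_ne_zero.2 hb)]
            subst hb
            exact Prod.ext (smul_left_injective F hp (add_right_cancel h')) rfl
          · rintro ⟨x, hx⟩
            obtain ⟨a, b, rfl⟩ := hmemL x hx
            exact ⟨(a, b), rfl⟩
        rw [← Nat.card_congr (Equiv.ofBijective g hg), Nat.card_prod, Nat.card_eq_fintype_card, hF]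
    have hmL : m ∈ L := hL.mem_of_perp hF fun x hx => by
      obtain ⟨a, b, rfl⟩ := hmemL x hx
      rw [(hW).add_right, (hW).smul_right, (hW).smul_right, ← (hW).symm p m, ← (hW).symm q m, hpm, hqm]
      simp
    exact hm (hL.orth m hmL m hmL)
  -- every non-trivial member is a transvection with centre orthogonal to `m`
  have hform : ∀ g ∈ A, g ≠ 1 → ∃ p : W, p ≠ 0 ∧ β p p = 0 ∧ β p m = 0 ∧ ∀ x, g x = x + β x p • p := by
    intro g hg hg1
    have hgg : ∀ x, g (g x) = x := fun x => LinearEquiv.congr_fun (hsq g hg) x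
    have hfx : ∀ x, g (g x + x) = g x + x := fun x => by rw [map_add, hgg, add_comm]
    have him : ∀ x y, β (g x + x) (g y + y) = 0 := fun x y => shift_form hF (hA hg) x (hfx y)
    have him' : ∀ x, β (g x + x) m = 0 := fun x => shift_form hF (hA hg) x (hfix g hg)
    obtain ⟨x₀, hx₀⟩ : ∃ x, g x + x ≠ 0 := by
      by_contra! h0
      refine hg1 (LinearEquiv.ext fun x => ?_)
      have := h0 x
      rw [add_eq_zero_iff_eq_neg, neg_eq_of_add_eq_zero_left (add_self_vec hF x)] at this
      exact this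
    set p := g x₀ + x₀
    have hline : ∀ x, ∃ t : F, g x + x = t • p := fun x =>
      hdep p _ hx₀ (him _ _) (him _ _) (him _ _) (him' _) (him' _)
    choose T hT using hline
    have hgx : ∀ x, g x = x + T x • p := fun x => by
      rw [← hT x, add_comm (g x) x, ← add_assoc, add_self_vec hF, zero_add]
    obtain ⟨y, hy⟩ := exists_left_value hF hx₀
    have hrel : ∀ x, T x = σ (T y) * β x p := fun x => by
      have h := iso_of_mem hF (hA hg) x y
      have hpy : β p y = 1 := by rw [← (hW).symm, hy, map_one]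
      simp only [hgx, (hW).add_left, (hW).add_right, (hW).smul_left, (hW).smul_right, hpy,
        show β p p = 0 from him _ _] at h
      linear_combination h - ThreeTransp.PSUSix.add_self' hF (σ (T y) * β x p)
    have hc : σ (T y) = T y := by
      have := hrel y
      rw [hy, mul_one] at this
      exact this.symm
    have hc01 : T y = 1 := by
      rw [Forms.qPowHom_apply] at hc
      have h2 : T y * (T y - 1) = 0 := by linear_combination hc
      rcases mul_eq_zero.1 h2 with e | e
      · exfalso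
        refine hx₀ ?_
        show g x₀ + x₀ = 0
        rw [hgx, hrel, e, map_zero, zero_mul, zero_smul, add_zero, add_self_vec hF]
      · exact sub_eq_zero.1 e
    exact ⟨p, hx₀, him _ _, him' _, fun x => by rw [hgx, hrel, hc01, map_one, one_mul]⟩
  have huniq : ∀ g ∈ A, ∀ g' ∈ A, g ≠ 1 → g' ≠ 1 → g = g' := by
    intro g hg g' hg' h1 h1'
    obtain ⟨p, hp, hpp, hpm, ep⟩ := hform g hg h1
    obtain ⟨q, hq, hqq, hqm, eq'⟩ := hform g' hg' h1'
    obtain ⟨t, ht⟩ : ∃ t : F, q = t • p := by
      by_cases h0 : β q p = 0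
      · exact hdep p q hp hpp hqq h0 hpm hqm
      · have h := LinearEquiv.congr_fun (hcomm g' hg' g hg) q
        simp only [LinearEquiv.mul_apply, ep, eq', hqq, zero_smul, add_zero, (hW).add_left, (hW).smul_left, zero_add] at h
        have h3 : (β q p * β p q) • q = 0 := by
          rw [mul_smul]
          have h4 := sub_eq_zero.2 h
          rw [← h4]
          module
        rcases smul_eq_zero.1 h3 with e | e
        · refine absurd ?_ h0
          rcases mul_eq_zero.1 e with e' | e'
          · exact e'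
          · rw [← (hW).symm, e', map_zero]
        · exact absurd e hq
    have ht0 : t ≠ 0 := fun e => hq (by rw [ht, e, zero_smul])
    refine LinearEquiv.ext fun x => ?_
    rw [ep, eq', ht, (hW).smul_right, smul_smul, Forms.qPowHom_apply, show t ^ 2 * β x p * t = t ^ 3 * β x p by ring,
      ThreeTransp.PSUSix.pow_three hF ht0, one_mul]
  have : Nat.card A ≤ Nat.card Bool := by
    refine Nat.card_le_card_of_injective (fun a => decide (a = 1)) fun a b h => ?_
    by_cases ha : a = 1 <;> by_cases hb : b = 1 <;> simp [ha, hb] at h ⊢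
    exact Subtype.ext (huniq a a.2 b b.2 (fun e => ha (Subtype.ext e)) fun e => hb (Subtype.ext e))
  simpa using this

/-- There is an element of order four. -/
theorem exists_sq_ne_one : ∃ g ∈ suV (card' hF) 4, g * g ≠ 1 ∧ (g * g) * (g * g) = 1 := by
  obtain ⟨e, he⟩ := exists_split (card' hF) 2
  obtain ⟨v, hv⟩ := exists_unit_vector (card' hF) 1
  have h2 := hermSpace_std (card' hF) 2
  obtain ⟨c, hc⟩ := h2.exists_fill v
  set T := uT h2 v c hc
  refine ⟨autConj e T, autConj_mem_uGroup h2.ext _ e he (uT_mem h2 v c hc), ?_, ?_⟩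
  · rw [← map_mul]
    intro h
    rw [MulEquiv.map_eq_one_iff] at h
    have h' := congrArg Prod.fst (LinearEquiv.congr_fun h ((0 : F), (1 : F), (0 : Fin 2 → F)))
    simp only [T, LinearEquiv.mul_apply, uT_apply, LinearEquiv.coe_one, id_eq, mul_one, h2.zero_left, sub_zero,
      zero_add, one_smul, hv] at h'
    exact one_ne_zero (by linear_combination ThreeTransp.PSUSix.add_self' hF c - h' : (1 : F) = 0)
  · rw [← map_mul, ← map_mul, MulEquiv.map_eq_one_iff]
    obtain ⟨hc1, e1⟩ := Fusion.SUData.uT_mul h2 v v c c hc hc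
    obtain ⟨hc2, e2⟩ := Fusion.SUData.uT_mul h2 (v + v) (v + v) (c + c - Cfsg.hermForm 2 F 2 v v)
      (c + c - Cfsg.hermForm 2 F 2 v v) hc1 hc1
    rw [show T * T = _ from e1, e2, ← Fusion.SUData.uT_zero h2 (by rw [map_zero, h2.zero_left]; simp)]
    have hvv : v + v = 0 := funext fun _ => ThreeTransp.PSUSix.add_self' hF _
    refine Fusion.SUData.uT_congr h2 (by rw [hvv, add_zero]) ?_
    rw [hvv, h2.zero_left, sub_zero]
    exact ThreeTransp.PSUSix.add_self' hF _

theorem card_lt_sylow (A : Subgroup ((Fin 4 → F) ≃ₗ[F] (Fin 4 → F))) (hA : A ≤ suV (card' hF) 4)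
    (hsq : ∀ a ∈ A, a * a = 1) : Nat.card A ≤ 32 := by
  classical
  haveI : Fact (Nat.Prime 2) := ⟨Nat.prime_two⟩
  haveI : Finite ((Fin 4 → F) ≃ₗ[F] (Fin 4 → F)) := Fusion.SUData.finite_equiv
  have hp : IsPGroup 2 A := fun a => ⟨1, Subtype.ext (by rw [pow_one, pow_two]; exact hsq a a.2)⟩
  obtain ⟨k, hk⟩ := IsPGroup.iff_card.1 hp
  have hd : 2 ^ k ∣ 25920 := hk ▸ natCard_suV hF ▸ Subgroup.card_dvd_of_le hA
  have hk6 : k ≤ 6 := by
    by_contra h
    have : 2 ^ 7 ∣ 25920 := (pow_dvd_pow 2 (by omega)).trans hd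
    norm_num at this
  rcases Nat.lt_or_ge k 6 with h | h
  · rw [hk]
    calc 2 ^ k ≤ 2 ^ 5 := Nat.pow_le_pow_right (by norm_num) (by omega)
      _ = 32 := by norm_num
  exfalso
  obtain rfl : k = 6 := le_antisymm hk6 h
  obtain ⟨g, hg, hg2, hg4⟩ := exists_sq_ne_one hF
  let G' := suV (card' hF) 4
  haveI : Finite G' := Nat.finite_of_card_ne_zero (by rw [natCard_suV hF]; norm_num)
  let A' := A.subgroupOf G'
  have hA' : IsPGroup 2 A' := fun a => ⟨1, Subtype.ext (Subtype.ext (by
    rw [pow_one, pow_two]; exact hsq _ a.2))⟩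
  have hcard' : Nat.card A' = 2 ^ (Nat.card G').factorization 2 := by
    rw [Nat.card_congr (Subgroup.subgroupOfEquivOfLe hA).toEquiv, hk, natCard_suV hF]
    congr 1
    rw [show (25920 : ℕ) = 2 ^ 6 * 405 by norm_num, Nat.factorization_mul (by norm_num) (by norm_num),
      Nat.Prime.factorization_pow Nat.prime_two]
    simp [Nat.factorization_eq_zero_of_not_dvd (show ¬ 2 ∣ 405 by norm_num)]
  let P : Sylow 2 G' := Sylow.ofCard A' hcard'
  let g' : G' := ⟨g, hg⟩
  have hzp : IsPGroup 2 (Subgroup.zpowers g') := by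
    refine IsPGroup.of_card (n := (orderOf g').factorization 2) ?_
    rw [Nat.card_zpowers]
    have h4 : g' ^ 4 = 1 := Subtype.ext (by
      show g ^ 4 = 1
      rw [show g ^ 4 = (g * g) * (g * g) by simp only [pow_succ, pow_zero, one_mul, mul_assoc]]
      exact hg4)
    obtain ⟨j, -, hj⟩ := (Nat.dvd_prime_pow Nat.prime_two).1 (show orderOf g' ∣ 2 ^ 2 from orderOf_dvd_of_pow_eq_one h4)
    rw [hj, Nat.Prime.factorization_pow Nat.prime_two]
    simp
  obtain ⟨Q, hQ⟩ := hzp.exists_le_sylow
  obtain ⟨x, hx⟩ := MulAction.exists_smul_eq G' P Q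
  have hgQ : g' ∈ x • P := hx ▸ hQ (Subgroup.mem_zpowers g')
  have hgQ' : g' ∈ ((x • P : Sylow 2 G') : Subgroup G') := hgQ
  rw [Sylow.coe_subgroup_smul, Subgroup.mem_pointwise_smul_iff_inv_smul_mem] at hgQ'
  have hmem : x⁻¹ * g' * x ∈ A' := by
    rw [← map_inv, MulAut.smul_def, MulAut.conj_apply, inv_inv] at hgQ'
    exact hgQ'
  have h2 : g' * g' = 1 := by
    have h' : (x⁻¹ * g' * x) * (x⁻¹ * g' * x) = 1 := Subtype.ext (hsq _ hmem)
    calc g' * g' = x * ((x⁻¹ * g' * x) * (x⁻¹ * g' * x)) * x⁻¹ := by group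
      _ = 1 := by rw [h']; group
  exact hg2 (congrArg Subtype.val h2)

/-- The rank bound. -/
theorem rank_bound (A : Subgroup ((Fin 4 → F) ≃ₗ[F] (Fin 4 → F))) (hA : A ≤ suV (card' hF) 4)
    (hsq : ∀ a ∈ A, a * a = 1) (hcomm : ∀ a ∈ A, ∀ b ∈ A, a * b = b * a) (U : AddSubgroup W)
    (hfix : ∀ a ∈ A, ∀ u ∈ U, a u = u) (hU : ∀ u ∈ U, ∀ u' ∈ U, σ (β u u') = β u u')
    (hbig : 256 ≤ Nat.card U * Nat.card A) : IsLag U := by
  classical
  set M := Submodule.span F (U : Set W) with hM
  have hfixM : ∀ a ∈ A, ∀ x ∈ M, a x = x := by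
    intro a ha x hx
    induction hx using Submodule.span_induction with
    | mem y hy => exact hfix a ha y hy
    | zero => exact map_zero a
    | add y z _ _ hy hz => rw [map_add, hy, hz]
    | smul c y _ hy => rw [map_smul, hy]
  have hUM : (U : Set W) ⊆ M := Submodule.subset_span
  have hcardle : Nat.card U ≤ Nat.card M :=
    Nat.card_le_card_of_injective (fun u => (⟨u.1, hUM u.2⟩ : M)) fun u v h =>
      Subtype.ext (congrArg Subtype.val h :)
  have hW256 : Nat.card W = 256 := by simp [hF]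
  by_cases htop : M = ⊤
  · exfalso
    have hA1 : Nat.card A = 1 := by
      rw [Subgroup.card_eq_one]
      exact (Subgroup.eq_bot_iff_forall A).2 fun a ha =>
        LinearEquiv.ext fun x => hfixM a ha x (htop ▸ Submodule.mem_top)
    rw [hA1, mul_one] at hbig
    have hUtop : U = ⊤ := AddSubgroup.eq_top_of_le_card U (hW256 ▸ hbig)
    obtain ⟨ν, hν⟩ : ∃ ν : F, σ ν ≠ ν := by
      by_contra! hall
      exact Forms.qPowHom_ne_id (card' hF) (RingHom.ext hall)
    obtain ⟨u, hu⟩ := exists_left_value hF (show (fun _ => (1 : F)) ≠ (0 : W) from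
      fun h => one_ne_zero (congrFun h 0))
    have h := hU (ν • u) (hUtop ▸ AddSubgroup.mem_top _) (fun _ => 1) (hUtop ▸ AddSubgroup.mem_top _)
    rw [(hW).smul_left, hu, mul_one] at h
    exact hν h
  have hM64 : Nat.card M ≤ 64 := by
    rw [Module.natCard_eq_pow_finrank (K := F), Nat.card_eq_fintype_card, hF]
    have hlt : Module.finrank F M < 4 := by
      have := Submodule.finrank_lt (K := F) htop
      simpa using this
    calc 4 ^ Module.finrank F M ≤ 4 ^ 3 := Nat.pow_le_pow_right (by norm_num) (by omega)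
      _ = 64 := by norm_num
  by_cases haniso : ∃ m ∈ M, β m m ≠ 0
  · exfalso
    obtain ⟨m, hm, hmm⟩ := haniso
    have h2 := aniso_fix_card hF A hA hsq hcomm hmm fun a ha => hfixM a ha m hm
    have : Nat.card U * Nat.card A ≤ 64 * 2 := Nat.mul_le_mul (hcardle.trans hM64) h2
    omega
  push Not at haniso
  have horth : ∀ x ∈ M, ∀ y ∈ M, β x y = 0 := by
    intro x hx y hy
    obtain ⟨ν, hν⟩ : ∃ ν : F, σ ν ≠ ν := by
      by_contra! hall
      exact Forms.qPowHom_ne_id (card' hF) (RingHom.ext hall)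
    have h1 := haniso _ (add_mem hx hy)
    have h2 := haniso _ (add_mem (M.smul_mem ν hx) hy)
    simp only [(hW).add_left, (hW).add_right, (hW).smul_left, (hW).smul_right, haniso x hx, haniso y hy,
      mul_zero, zero_add, add_zero] at h1 h2
    have h3 : (ν - σ ν) * β x y = 0 := by linear_combination h2 - σ ν * h1
    exact (mul_eq_zero.1 h3).resolve_left (sub_ne_zero.2 fun e => hν e.symm)
  by_cases hline : ∃ p ∈ M, ∃ q ∈ M, p ≠ 0 ∧ ∀ t : F, q ≠ t • p
  · obtain ⟨p, hp, q, hq, hp0, hind⟩ := hline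
    have hle : Nat.card M ≤ 16 := by
      rw [← card_perp_two hF hp0 hind]
      exact Nat.card_le_card_of_injective (fun x => ⟨x.1, horth _ x.2 _ hp, horth _ x.2 _ hq⟩)
        fun x y h => Subtype.ext (congrArg Subtype.val h :)
    have hge : 16 ≤ Nat.card M := by
      have hcF : Nat.card (F × F) = 16 := by rw [Nat.card_prod, Nat.card_eq_fintype_card, hF]
      rw [← hcF]
      refine Nat.card_le_card_of_injective
        (fun v => ⟨v.1 • p + v.2 • q, M.add_mem (M.smul_mem _ hp) (M.smul_mem _ hq)⟩) ?_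
      rintro ⟨a, b⟩ ⟨a', b'⟩ h
      have h' : a • p + b • q = a' • p + b' • q := congrArg Subtype.val h
      have hb : b = b' := by
        by_contra hb
        refine hind ((b - b')⁻¹ * (a' - a)) ?_
        rw [mul_smul, ← show (b - b') • q = (a' - a) • p by
          rw [sub_smul, sub_smul, sub_eq_sub_iff_add_eq_add, add_comm, h', add_comm], inv_smul_smul₀
          (sub_ne_zero.2 hb)]
      subst hb
      exact Prod.ext (smul_left_injective F hp0 (add_right_cancel h')) rfl
    have hLag : IsLag M.toAddSubgroup :=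
      ⟨horth, fun a x hx => M.smul_mem a hx, (le_antisymm hle hge : Nat.card M = 16)⟩
    have hA16 := lag_fix_card hF hLag A hA fun a ha u hu => hfixM a ha u hu
    have hUge : 16 ≤ Nat.card U := by
      by_contra hlt
      have : Nat.card U * Nat.card A ≤ 15 * 16 := Nat.mul_le_mul (by omega) hA16
      omega
    have heq : (U : Set W) = M := Set.eq_of_subset_of_ncard_le hUM (by
      rw [← Nat.card_coe_set_eq, ← Nat.card_coe_set_eq, SetLike.coe_sort_coe, SetLike.coe_sort_coe]
      omega) (Set.toFinite _)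
    have : U = M.toAddSubgroup := SetLike.coe_injective heq
    rw [this]
    exact hLag
  · exfalso
    push Not at hline
    have hM4 : Nat.card M ≤ 4 := by
      by_cases hbot : ∃ p ∈ M, p ≠ 0
      · obtain ⟨p, hp, hp0⟩ := hbot
        have hsurj : Function.Surjective (fun t : F => (⟨t • p, M.smul_mem t hp⟩ : M)) := fun x => by
          obtain ⟨t, ht⟩ := hline p hp x.1 x.2 hp0
          exact ⟨t, Subtype.ext ht.symm⟩
        exact (Nat.card_le_card_of_surjective _ hsurj).trans (by rw [Nat.card_eq_fintype_card, hF])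
      · push Not at hbot
        haveI : Subsingleton M := ⟨fun a b => Subtype.ext ((hbot _ a.2).trans (hbot _ b.2).symm)⟩
        rw [Nat.card_of_subsingleton (0 : M)]
        norm_num
    have h32 := card_lt_sylow hF A hA hsq
    have : Nat.card U * Nat.card A ≤ 4 * 32 := Nat.mul_le_mul (hcardle.trans hM4) h32
    omega

/-- There is a totally isotropic plane. -/
theorem exists_lag : ∃ L : AddSubgroup W, IsLag L := by
  classical
  set p : W := ![1, 1, 0, 0]
  set q : W := ![0, 0, 1, 1]
  have h11 := ThreeTransp.PSUSix.add_self' hF (1 : F)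
  have hpq : ∀ a b c d : F, β (a • p + b • q) (c • p + d • q) = 0 := by
    intro a b c d
    simp [Cfsg.hermForm, Fin.sum_univ_four, p, q]
    linear_combination (a * c ^ 2 + b * d ^ 2) * h11
  refine ⟨(Submodule.span F ({p, q} : Set W)).toAddSubgroup, fun x hx y hy => ?_, fun a x hx => Submodule.smul_mem _ a hx, ?_⟩
  · obtain ⟨a, b, rfl⟩ := Submodule.mem_span_pair.1 hx
    obtain ⟨c, d, rfl⟩ := Submodule.mem_span_pair.1 hy
    exact hpq a b c d
  · let g : F × F → (Submodule.span F ({p, q} : Set W)) :=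
      fun v => ⟨v.1 • p + v.2 • q, Submodule.mem_span_pair.2 ⟨v.1, v.2, rfl⟩⟩
    have hg : Function.Bijective g := by
      constructor
      · rintro ⟨a, b⟩ ⟨a', b'⟩ h
        have h' : a • p + b • q = a' • p + b' • q := congrArg Subtype.val h
        have e0 := congrFun h' 0
        have e2 := congrFun h' 2
        simp [p, q] at e0 e2
        exact Prod.ext e0 e2
      · rintro ⟨x, hx⟩
        obtain ⟨a, b, rfl⟩ := Submodule.mem_span_pair.1 hx
        exact ⟨(a, b), rfl⟩
    show Nat.card (Submodule.span F ({p, q} : Set W)) = 16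
    rw [← Nat.card_congr (Equiv.ofBijective g hg), Nat.card_prod, Nat.card_eq_fintype_card, hF]

end Cfsg.Agent.Lib.FischerPair
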