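import Cfsg.Agent.Lib.FischerPair.Extra
import Cfsg.Agent.Lib.LargeES.Heisenberg
import Cfsg.Agent.Lib.CharP.Fitting

/-!
# The radical of the centraliser of a product is `2 × 2^{1+8}` and is the generalised Fitting subgroup
-/

set_option autoImplicit false
set_option linter.style.haveILetI false
set_option linter.unusedSectionVars false

namespace Cfsg.Agent.Lib.FischerPair

open Cfsg Cfsg.Agent.Lib.ThreeTransp Cfsg.Agent.Lib.M22Struct66

variable {G : Type*} [Group G] [Finite G] {D : Set G}

namespace Setup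

variable {F : Type} [Field F] [Fintype F] {d₁ d₂ : G}
variable (S : Setup D F d₁ d₂)
include S

theorem two_subgroup_mem {M : Subgroup G} (hz : d₁ * d₂ ∈ M) {g : G} (hg : Two d₁ d₂ g) : g ∈ M := by
  rcases hg with rfl | rfl
  exacts [one_mem M, hz]

theorem exists_complement :
    ∃ M : Subgroup G, M ≤ S.Op ∧ d₁ * d₂ ∈ M ∧ d₁ ∉ M ∧ ∀ x ∈ S.Op, x ∈ M ∨ x * d₁ ∈ M := by
  haveI : Finite (Subgroup G) := Finite.of_injective (fun H => (H : Set G)) SetLike.coe_injective
  have hne : ({M : Subgroup G | M ≤ S.Op ∧ d₁ * d₂ ∈ M ∧ d₁ ∉ M}).Nonempty := by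
    refine ⟨Subgroup.zpowers (d₁ * d₂), Subgroup.zpowers_le.2 (S.four_mem_Op (Or.inr (Or.inr (Or.inr rfl)))),
      Subgroup.mem_zpowers _, fun h => ?_⟩
    have hall : ∀ g ∈ Subgroup.zpowers (d₁ * d₂), Two d₁ d₂ g := by
      intro g hg
      rw [Subgroup.zpowers_eq_closure] at hg
      induction hg using Subgroup.closure_induction with
      | mem x hx => exact Or.inr hx
      | one => exact Or.inl rfl
      | mul a b _ _ iha ihb => exact S.two_mul iha ihb
      | inv a _ iha => exact S.two_inv iha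
    rcases hall _ h with e | e
    · exact ne_one S.set S.h1 e
    · exact ne_one S.set S.h2.1 (mul_left_cancel (a := d₁) (by rw [mul_one, ← e]))
  obtain ⟨M, ⟨⟨hMO, hzM, hdM⟩, hmax⟩⟩ := (Set.toFinite _).exists_maximal hne
  refine ⟨M, hMO, hzM, hdM, fun x hx => ?_⟩
  by_cases hxM : x ∈ M
  · exact Or.inl hxM
  right
  have hconj : ∀ y ∈ S.Op, ∀ m ∈ M, y * m * y⁻¹ ∈ M := fun y hy m hm => by
    have := M.mul_mem (S.two_subgroup_mem hzM (S.comm_two hy (hMO hm))) hm
    rwa [inv_mul_cancel_right] at this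
  have hsq : x * x ∈ M := S.two_subgroup_mem hzM (S.sq_two hx)
  set N := Subgroup.closure (insert x (M : Set G)) with hN
  have hform : ∀ g ∈ N, g ∈ M ∨ x * g ∈ M := by
    intro g hg
    induction hg using Subgroup.closure_induction with
    | mem a ha =>
      rcases ha with rfl | ha
      · exact Or.inr hsq
      · exact Or.inl ha
    | one => exact Or.inl (one_mem M)
    | mul a b _ _ iha ihb =>
      rcases iha with ha | ha <;> rcases ihb with hb | hb
      · exact Or.inl (M.mul_mem ha hb)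
      · refine Or.inr ?_
        rw [show x * (a * b) = (x * a * x⁻¹) * (x * b) by group]
        exact M.mul_mem (hconj x hx a ha) hb
      · refine Or.inr ?_
        rw [← mul_assoc]
        exact M.mul_mem ha hb
      · refine Or.inl ?_
        rw [show a * b = (x⁻¹ * (x * a) * x⁻¹⁻¹) * (x * x)⁻¹ * (x * b) by group]
        exact M.mul_mem (M.mul_mem (hconj _ (inv_mem hx) _ ha) (inv_mem hsq)) hb
    | inv a _ iha =>
      rcases iha with ha | ha
      · exact Or.inl (M.inv_mem ha)
      · refine Or.inr ?_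
        rw [show x * a⁻¹ = (x * (x * a)⁻¹ * x⁻¹) * (x * x) by group]
        exact M.mul_mem (hconj x hx _ (inv_mem ha)) hsq
  have hMN : M ≤ N := fun m hm => Subgroup.subset_closure (Or.inr hm)
  have hd : d₁ ∈ N := by
    by_contra hd
    exact hxM (hmax ⟨(Subgroup.closure_le _).2 (Set.insert_subset hx hMO), hMN hzM, hd⟩ hMN
      (Subgroup.subset_closure (Or.inl rfl)))
  exact (hform _ hd).resolve_left hdM

theorem exists_split_equiv : ∃ (E : Type) (_ : Group E) (_ : Finite E),
    Cfsg.IsExtraspecial 2 E ∧ Nat.card E = 2 ^ 9 ∧ Nonempty (↥S.Op ≃* Multiplicative (ZMod 2) × E) := by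
  classical
  obtain ⟨M, hMO, hzM, hdM, hcov⟩ := S.exists_complement
  have hd1 : d₁ * d₁ = 1 := mul_self S.set S.h1
  have hd1O : d₁ ∈ S.Op := S.four_mem_Op (Or.inr (Or.inl rfl))
  have hcomm : ∀ x ∈ S.Op, Commute d₁ x := fun x hx => (mem_Kp.1 (S.Op_le hx)).1.symm
  -- the product decomposition
  let u : Multiplicative (ZMod 2) →* G :=
    { toFun := fun a => if a = 1 then 1 else d₁
      map_one' := if_pos rfl
      map_mul' := fun a b => by
        have key : ∀ a : Multiplicative (ZMod 2), a = 1 ∨ a = Multiplicative.ofAdd 1 := by decide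
        have hne : (Multiplicative.ofAdd (1 : ZMod 2)) ≠ 1 := by decide
        have h2 : Multiplicative.ofAdd (1 : ZMod 2) * Multiplicative.ofAdd (1 : ZMod 2) = 1 := by decide
        rcases key a with rfl | rfl <;> rcases key b with rfl | rfl <;> simp [hne, h2, hd1] }
  have hu : ∀ a, u a = 1 ∨ u a = d₁ := fun a => by
    by_cases ha : a = 1
    · exact Or.inl (if_pos ha)
    · exact Or.inr (if_neg ha)
  have huO : ∀ a, u a ∈ S.Op := fun a => by
    rcases hu a with h | h <;> rw [h]
    exacts [one_mem _, hd1O]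
  let f : Multiplicative (ZMod 2) × M →* S.Op :=
    { toFun := fun p => ⟨u p.1 * p.2, mul_mem (huO p.1) (hMO p.2.2)⟩
      map_one' := Subtype.ext (by simp)
      map_mul' := fun p q => Subtype.ext (by
        have hc : Commute (u q.1) (p.2 : G) := by
          rcases hu q.1 with h | h <;> rw [h]
          exacts [Commute.one_left _, hcomm _ (hMO p.2.2)]
        simp only [Prod.fst_mul, Prod.snd_mul, map_mul, Subgroup.coe_mul]
        rw [mul_assoc (u p.1), ← mul_assoc (u q.1), hc.eq]
        simp only [mul_assoc]) }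
  have hbij : Function.Bijective f := by
    constructor
    · refine (injective_iff_map_eq_one f).2 fun ⟨a, m⟩ h => ?_
      have h' : u a * (m : G) = 1 := congrArg Subtype.val h
      by_cases ha : a = 1
      · subst ha
        rw [map_one, one_mul] at h'
        exact Prod.ext rfl (Subtype.ext h')
      · exfalso
        rw [show u a = d₁ from if_neg ha, mul_eq_one_iff_eq_inv] at h'
        exact hdM (h' ▸ inv_mem m.2)
    · rintro ⟨x, hx⟩
      rcases hcov x hx with h | h
      · exact ⟨(1, ⟨x, h⟩), Subtype.ext (by simp [f])⟩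
      · refine ⟨(Multiplicative.ofAdd 1, ⟨x * d₁, h⟩), Subtype.ext ?_⟩
        show (if (Multiplicative.ofAdd (1 : ZMod 2)) = 1 then 1 else d₁) * (x * d₁) = x
        rw [if_neg (by decide), ← mul_assoc, (hcomm x hx).eq, mul_assoc, hd1, mul_one]
  have hcardM : Nat.card M = 2 ^ 9 := by
    have := Nat.card_congr (Equiv.ofBijective f hbij)
    rw [Nat.card_prod, S.natCard_Op, show Nat.card (Multiplicative (ZMod 2)) = 2 from Nat.card_zmod 2] at this
    norm_num at this ⊢
    omega
  obtain ⟨n, ⟨e⟩⟩ := Finite.exists_equiv_fin M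
  let e' : ↥M ≃ {_i : Fin n // True} := e.trans (Equiv.subtypeUnivEquiv fun _ => trivial).symm
  letI : Group {_i : Fin n // True} := e'.symm.group
  let φ : {_i : Fin n // True} ≃* M := e'.symm.mulEquiv
  refine ⟨{_i : Fin n // True}, inferInstance, inferInstance, ?_, (Nat.card_congr φ.toEquiv).trans hcardM,
    ⟨((MulEquiv.ofBijective f hbij).symm).trans ((MulEquiv.refl _).prodCongr φ.symm)⟩⟩
  set z : M := ⟨d₁ * d₂, hzM⟩ with hz
  have hval : ∀ a : {_i : Fin n // True}, ∀ m : M, (φ a : G) = m → a = φ.symm m := fun a m h => by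
    rw [← φ.symm_apply_apply a, show φ a = m from Subtype.ext h]
  have hd2M : d₂ ∉ M := fun h => hdM (by
    have := M.mul_mem hzM h
    rwa [mul_assoc, mul_self S.set S.h2.1, mul_one] at this)
  have hallM : ∀ a : {_i : Fin n // True}, a ∈ Subgroup.center {_i : Fin n // True} → a = 1 ∨ a = φ.symm z := by
    intro a ha
    have hamM : (φ a : G) ∈ S.Op := hMO (φ a).2
    have hcen : ∀ x ∈ S.Op, Commute (φ a : G) x := by
      intro x hx
      have hin : ∀ m : M, Commute (φ a : G) m := fun m => by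
        obtain ⟨b, rfl⟩ := φ.surjective m
        have := congrArg φ (Subgroup.mem_center_iff.1 ha b)
        rw [map_mul, map_mul] at this
        exact (congrArg Subtype.val this).symm
      rcases hcov x hx with h | h
      · exact hin ⟨x, h⟩
      · have := (hin ⟨x * d₁, h⟩).mul_right (hcomm _ hamM).symm
        rwa [mul_assoc, hd1, mul_one] at this
    obtain ⟨hK, h1⟩ := S.mem_Op.1 hamM
    rcases S.four_of_central h1 (fun l hl => Subtype.ext (hcen l (S.mem_Op.2 ⟨l.2, hl⟩)).eq) with h | h | h | h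
    · exact Or.inl ((hval a 1 h).trans (map_one _))
    · exact absurd (h ▸ (φ a).2) hdM
    · exact absurd (h ▸ (φ a).2) hd2M
    · exact Or.inr (hval a z h)
  have hzc : ∀ a : {_i : Fin n // True}, Two d₁ d₂ (φ a : G) → a ∈ Subgroup.center {_i : Fin n // True} := fun a ha =>
    Subgroup.mem_center_iff.2 fun b => φ.injective (Subtype.ext (by
      rw [map_mul, map_mul, Subgroup.coe_mul, Subgroup.coe_mul]
      conv_rhs => rw [← S.two_central ha (S.Op_le (hMO (φ b).2))]
      rw [inv_mul_cancel_right]))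
  obtain ⟨x, y, hxy⟩ : ∃ x y : {_i : Fin n // True}, x * y ≠ y * x := by
    by_contra! hall
    have h : ∀ a : {_i : Fin n // True}, a = 1 ∨ a = φ.symm z := fun a => hallM a (Subgroup.mem_center_iff.2 fun b => hall b a)
    have hle : Nat.card {_i : Fin n // True} ≤ Nat.card Bool :=
      Nat.card_le_card_of_surjective (fun b : Bool => if b then 1 else φ.symm z) fun a => by
        rcases h a with e | e
        · exact ⟨true, by simp [e]⟩
        · exact ⟨false, by simp [e]⟩
    rw [(Nat.card_congr φ.toEquiv).trans hcardM, Nat.card_eq_fintype_card, Fintype.card_bool] at hle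
    norm_num at hle
  refine LargeES.Heisenberg.isExtraspecial_of_props (z := φ.symm z) (x := x) (y := y)
    (IsPGroup.of_card ((Nat.card_congr φ.toEquiv).trans hcardM)) ?_
    (hzc _ (by rw [φ.apply_symm_apply]; exact Or.inr rfl)) hallM (fun a => hzc _ ?_) (fun a b => hzc _ ?_) hxy
  · intro h
    have := congrArg (fun a => ((φ a : M) : G)) h
    simp only [φ.apply_symm_apply, map_one, OneMemClass.coe_one, hz] at this
    exact S.prod_ne_one this
  · rw [pow_two, map_mul, Subgroup.coe_mul]
    exact S.sq_two (hMO (φ a).2)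
  · simp only [map_mul, map_inv, Subgroup.coe_mul, Subgroup.coe_inv]
    exact S.comm_two (hMO (φ a).2) (hMO (φ b).2)

theorem generalizedFitting_eq :
    Cfsg.generalizedFittingSubgroup ↥(Cp d₁ d₂) = S.Op.subgroupOf (Cp d₁ d₂) := by
  haveI : Fact (Nat.Prime 2) := ⟨Nat.prime_two⟩
  obtain ⟨hn, -⟩ := S.exists_quot_equiv
  have hle : S.Op ≤ Cp d₁ d₂ := S.Op_le.trans (Kp_le_Cp d₁ d₂)
  have h1 : S.Op.subgroupOf (Cp d₁ d₂) ≤ pCore 2 ↥(Cp d₁ d₂) :=
    PSolvable.le_pCore (S.isPGroup_Op.comap_subtype)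
  have h2 : pCore 2 ↥(Cp d₁ d₂) ≤ S.Op.subgroupOf (Cp d₁ d₂) := by
    have hN := S.le_Op (N := (pCore 2 ↥(Cp d₁ d₂)).map (Cp d₁ d₂).subtype) (Subgroup.map_subtype_le _)
      (fun c hc n hn => by
        obtain ⟨m, hm, rfl⟩ := hn
        exact ⟨⟨c, hc⟩ * m * (⟨c, hc⟩ : Cp d₁ d₂)⁻¹, (inferInstance : (pCore 2 ↥(Cp d₁ d₂)).Normal).conj_mem m hm _,
          rfl⟩)
      (PSolvable.pCore_isPGroup.map _)
    intro x hx
    exact hN ⟨x, hx, rfl⟩
  have he : pCore 2 ↥(Cp d₁ d₂) = S.Op.subgroupOf (Cp d₁ d₂) := le_antisymm h2 h1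
  rw [CharP.generalizedFittingSubgroup_eq_pCore (p := 2) ?_, he]
  rw [he]
  intro c hc
  refine S.mem_Op_of_centralizes c.2 fun x hx => ?_
  exact (congrArg Subtype.val (Subgroup.mem_centralizer_iff.1 hc ⟨x, hle hx⟩ hx)).symm

end Setup

end Cfsg.Agent.Lib.FischerPair
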