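import Cfsg.Agent.Lib.FischerPair.Rank
import Cfsg.Agent.Lib.FischerPair.Extra
import Cfsg.Agent.Lib.PGroup.Thompson

/-!
# The Thompson subgroup of a Sylow 2-subgroup of a group of type M(22)
-/

set_option autoImplicit false
set_option linter.style.haveILetI false
set_option linter.unusedSectionVars false

namespace Cfsg.Agent.Lib.FischerPair

open Cfsg Cfsg.Agent.Lib.ThreeTransp Cfsg.Agent.Lib.M22Struct66
open Cfsg.Agent.Lib.Classical (uT uInd uT_apply uInd_apply uExt hermSpace_std)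
open Cfsg.Agent.Lib.MinIndexUnitary (suV)
open Cfsg.Agent.Lib.ThreeTransp.PSUSix (card')

variable {G : Type*} [Group G] [Finite G] {D : Set G}

theorem natCard_hom_split {H : Type*} [Group H] {M : Type*} [Group M] (f : H →* M) :
    Nat.card H = Nat.card f.ker * Nat.card f.range := by
  rw [← f.ker.card_mul_index, Subgroup.index_ker]

/-- A closure of commuting involutions. -/
theorem closure_elementary {s : Set G} (hsq : ∀ x ∈ s, x * x = 1) (hc : ∀ x ∈ s, ∀ y ∈ s, Commute x y) :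
    (∀ x ∈ Subgroup.closure s, ∀ y ∈ Subgroup.closure s, Commute x y) ∧
      ∀ x ∈ Subgroup.closure s, x * x = 1 := by
  have h1 : ∀ x ∈ s, ∀ y ∈ Subgroup.closure s, Commute x y := by
    intro x hx y hy
    induction hy using Subgroup.closure_induction with
    | mem z hz => exact hc x hx z hz
    | one => exact Commute.one_right x
    | mul a b _ _ ha hb => exact ha.mul_right hb
    | inv a _ ha => exact ha.inv_right
  have h2 : ∀ x ∈ Subgroup.closure s, ∀ y ∈ Subgroup.closure s, Commute x y := by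
    intro x hx y hy
    induction hx using Subgroup.closure_induction with
    | mem z hz => exact h1 z hz y hy
    | one => exact Commute.one_left y
    | mul a b _ _ ha hb => exact ha.mul_left hb
    | inv a _ ha => exact ha.inv_left
  refine ⟨h2, fun x hx => ?_⟩
  induction hx using Subgroup.closure_induction with
  | mem z hz => exact hsq z hz
  | one => exact one_mul 1
  | mul a b ha hb iha ihb => rw [(h2 b hb a ha).mul_mul_mul_comm, iha, ihb, one_mul]
  | inv a _ ha => rw [← mul_inv_rev, ha, inv_one]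

namespace Setup

variable {F : Type} [Field F] [Fintype F] {d₁ d₂ : G}
variable (S : Setup D F d₁ d₂)

local notation "hF" => S.hX.card
local notation "β" => Cfsg.hermForm 4 F 2
local notation "σ" => Forms.qPowHom (card' S.hX.card)
local notation "hW" => hermSpace_std (card' S.hX.card) 4

include S

theorem wc_of_spec {k : Kp d₁ d₂} {w : Fin 4 → F} {c : F} {hc : c + σ c + β w w = 0}
    {g : (Fin 4 → F) ≃ₗ[F] (Fin 4 → F)} (hk : S.co.mat (S.theta k) = uT hW w c hc * uInd g) :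
    S.wc k = w := by
  rw [wc, hk, LinearEquiv.mul_apply, uInd_apply, uT_apply]
  simp

theorem wc_mul' (k l : Kp d₁ d₂) :
    S.wc (k * l) = (S.co.lev (S.theta k) : (Fin 4 → F) ≃ₗ[F] (Fin 4 → F)) (S.wc l) + S.wc k := by
  obtain ⟨w, c, hc, e⟩ := S.co.lev_spec (S.theta k)
  obtain ⟨w', c', hc', e'⟩ := S.co.lev_spec (S.theta l)
  rw [S.wc_of_spec e, S.wc_of_spec e', wc, S.mat_mul, e, e']
  simp [uInd_apply, uT_apply]

theorem comm_data {k l : Kp d₁ d₂} (hl : S.phi l = 1) (h : k * l = l * k) :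
    (S.co.lev (S.theta k) : (Fin 4 → F) ≃ₗ[F] (Fin 4 → F)) (S.wc l) = S.wc l ∧
      σ (β (S.wc k) (S.wc l)) = β (S.wc k) (S.wc l) := by
  obtain ⟨w, c, hc, e⟩ := S.co.lev_spec (S.theta k)
  obtain ⟨w', c', hc', e'⟩ := S.rad_data hl
  rw [S.wc_of_spec e, S.wc_spec e']
  have h1 := S.mat_mul k l (0, 1, 0)
  rw [h, S.mat_mul l k, e, e'] at h1
  simp only [LinearEquiv.mul_apply, uInd_apply, uT_apply] at h1
  simp [(hW).zero_left] at h1
  have hk : (S.co.lev (S.theta k) : (Fin 4 → F) ≃ₗ[F] (Fin 4 → F)) w' = w' := by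
    have h2 : w + w' = (S.co.lev (S.theta k) : (Fin 4 → F) ≃ₗ[F] (Fin 4 → F)) w' + w := h1.2
    rw [add_comm] at h2
    exact (add_right_cancel h2).symm
  refine ⟨hk, ?_⟩
  have h3 := h1.1
  rw [hk] at h3
  rw [(hW).symm]
  linear_combination h3

theorem four_wc {k : Kp d₁ d₂} (h : Four d₁ d₂ (k : G)) : S.phi k = 1 ∧ S.wc k = 0 := by
  have e1 : S.wc S.el₁ = 0 := by rw [wc, S.theta_el₁, OneMemClass.coe_one, map_one]; rfl
  have e2 : S.wc S.el₂ = 0 := by
    rw [wc, show S.el₂ = ⟨S.mb (base6 F), S.mb_mem_Kp S.base_ne S.base_iso rfl⟩ from Subtype.ext S.mb_base.symm,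
      S.theta_mb S.base_ne S.base_iso rfl]
    simp
  rcases h with h | h | h | h
  · rw [show k = 1 from Subtype.ext h]; exact ⟨map_one _, S.wc_one⟩
  · rw [show k = S.el₁ from Subtype.ext h]; exact ⟨S.phi_el₁, e1⟩
  · rw [show k = S.el₂ from Subtype.ext h]; exact ⟨S.phi_el₂, e2⟩
  · rw [show k = S.el₁ * S.el₂ from Subtype.ext h]
    exact ⟨by rw [map_mul, S.phi_el₁, S.phi_el₂, one_mul], by rw [S.wc_mul S.phi_el₁ S.phi_el₂, e1, e2, add_zero]⟩

/-- The Levi components of a subgroup. -/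
noncomputable def levImg (H : Subgroup (Kp d₁ d₂)) : Subgroup ((Fin 4 → F) ≃ₗ[F] (Fin 4 → F)) :=
  H.map ((suV (card' hF) 4).subtype.comp (S.co.lev.comp S.theta))

theorem levImg_le (H : Subgroup (Kp d₁ d₂)) : S.levImg H ≤ suV (card' hF) 4 := by
  rintro _ ⟨k, -, rfl⟩
  exact (S.co.lev (S.theta k)).2

theorem mem_levImg {H : Subgroup (Kp d₁ d₂)} {g : (Fin 4 → F) ≃ₗ[F] (Fin 4 → F)} :
    g ∈ S.levImg H ↔ ∃ k ∈ H, (S.co.lev (S.theta k) : (Fin 4 → F) ≃ₗ[F] (Fin 4 → F)) = g := Iff.rfl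

/-- The radical components of a subgroup. -/
noncomputable def Uimg (H : Subgroup (Kp d₁ d₂)) : AddSubgroup (Fin 4 → F) where
  carrier := {w | ∃ k ∈ H, S.phi k = 1 ∧ S.wc k = w}
  zero_mem' := ⟨1, one_mem H, map_one _, S.wc_one⟩
  add_mem' := by
    rintro _ _ ⟨k, hk, hk1, rfl⟩ ⟨l, hl, hl1, rfl⟩
    exact ⟨k * l, H.mul_mem hk hl, by rw [map_mul, hk1, hl1, one_mul], S.wc_mul hk1 hl1⟩
  neg_mem' := by
    rintro _ ⟨k, hk, hk1, rfl⟩
    exact ⟨k⁻¹, H.inv_mem hk, by rw [map_inv, hk1, inv_one], S.wc_inv hk1⟩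

/-- The elements of a subgroup in the four-group. -/
def fours (H : Subgroup (Kp d₁ d₂)) : Set (Kp d₁ d₂) := {k | k ∈ H ∧ Four d₁ d₂ (k : G)}

theorem card_split (H : Subgroup (Kp d₁ d₂)) :
    Nat.card H = (fours H).ncard * Nat.card (S.Uimg H) * Nat.card (S.levImg H) := by
  rw [natCard_hom_split (((suV (card' hF) 4).subtype.comp (S.co.lev.comp S.theta)).comp H.subtype),
    MonoidHom.range_comp, Subgroup.range_subtype]
  congr 1
  set H₀ : Subgroup (Kp d₁ d₂) := H ⊓ S.phi.ker with hH₀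
  have e0 : Nat.card (((suV (card' hF) 4).subtype.comp (S.co.lev.comp S.theta)).comp H.subtype).ker =
      Nat.card H₀ := by
    refine Nat.card_congr
      { toFun := fun x => ⟨x.1.1, x.1.2, S.phi_eq_one.2 (Subtype.ext x.2)⟩
        invFun := fun x => ⟨⟨x.1, x.2.1⟩, congrArg Subtype.val (S.phi_eq_one.1 x.2.2)⟩
        left_inv := fun _ => rfl
        right_inv := fun _ => rfl }
  rw [e0]
  let f : H₀ →* Multiplicative (Fin 4 → F) :=
    MonoidHom.mk' (fun x => Multiplicative.ofAdd (S.wc x.1)) fun x y => by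
      rw [← ofAdd_add]; exact congrArg Multiplicative.ofAdd (S.wc_mul x.2.2 y.2.2)
  rw [natCard_hom_split f]
  congr 1
  · rw [← Nat.card_coe_set_eq]
    exact Nat.card_congr
      { toFun := fun x => ⟨x.1.1, x.1.2.1, S.mem_four_of_wc x.1.2.2 (Multiplicative.ofAdd.injective x.2)⟩
        invFun := fun x => ⟨⟨x.1, x.2.1, (S.four_wc x.2.2).1⟩, congrArg Multiplicative.ofAdd (S.four_wc x.2.2).2⟩
        left_inv := fun _ => rfl
        right_inv := fun _ => rfl }
  · exact Nat.card_congr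
      { toFun := fun x => ⟨Multiplicative.toAdd x.1, by
          obtain ⟨y, hy⟩ := x.2
          exact ⟨y.1, y.2.1, y.2.2, congrArg Multiplicative.toAdd hy⟩⟩
        invFun := fun x => ⟨Multiplicative.ofAdd x.1, by
          obtain ⟨k, hk, hk1, hw⟩ := x.2
          exact ⟨⟨k, hk, hk1⟩, congrArg Multiplicative.ofAdd hw⟩⟩
        left_inv := fun _ => rfl
        right_inv := fun _ => rfl }

theorem fours_le (H : Subgroup (Kp d₁ d₂)) : (fours H).ncard ≤ 4 := by
  have h : (fours H).ncard ≤ ({1, d₁, d₂, d₁ * d₂} : Set G).ncard :=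
    Set.ncard_le_ncard_of_injOn Subtype.val (fun k hk => by simpa [Four] using hk.2)
      Subtype.val_injective.injOn (Set.toFinite _)
  have h1 := Set.ncard_insert_le (1 : G) ({d₁, d₂, d₁ * d₂} : Set G)
  have h2 := Set.ncard_insert_le d₁ ({d₂, d₁ * d₂} : Set G)
  have h3 := Set.ncard_insert_le d₂ ({d₁ * d₂} : Set G)
  rw [Set.ncard_singleton] at h3
  omega

/-- The elements compatible with a plane. -/
noncomputable def Qs (L : AddSubgroup (Fin 4 → F)) : Subgroup (Kp d₁ d₂) where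
  carrier := {k | (∀ u ∈ L, (S.co.lev (S.theta k) : (Fin 4 → F) ≃ₗ[F] (Fin 4 → F)) u = u) ∧ S.wc k ∈ L}
  one_mem' := ⟨fun u _ => by simp, by rw [S.wc_one]; exact L.zero_mem⟩
  mul_mem' := by
    rintro k l ⟨hk, hk'⟩ ⟨hl, hl'⟩
    refine ⟨fun u hu => ?_, ?_⟩
    · rw [map_mul, map_mul, Subgroup.coe_mul, LinearEquiv.mul_apply, hl u hu, hk u hu]
    · rw [S.wc_mul', hk _ hl']
      exact L.add_mem hl' hk'
  inv_mem' := by
    rintro k ⟨hk, hk'⟩
    have hinv : ∀ u ∈ L, (S.co.lev (S.theta k⁻¹) : (Fin 4 → F) ≃ₗ[F] (Fin 4 → F)) u = u := fun u hu => by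
      rw [map_inv, map_inv, Subgroup.coe_inv]
      exact (LinearEquiv.symm_apply_eq _).2 (hk u hu).symm
    refine ⟨hinv, ?_⟩
    have h := S.wc_mul' k⁻¹ k
    rw [inv_mul_cancel, S.wc_one, hinv _ hk'] at h
    rw [show S.wc k⁻¹ = -S.wc k from eq_neg_of_add_eq_zero_right h.symm]
    exact L.neg_mem hk'

/-- The generators attached to a plane. -/
def plGens (L : AddSubgroup (Fin 4 → F)) : Set G :=
  {d₁, d₂} ∪ {g | ∃ (a : F) (w : Fin 4 → F), w ∈ L ∧ w ≠ 0 ∧ g = S.col a w}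

/-- The subgroup attached to a plane. -/
def PL (L : AddSubgroup (Fin 4 → F)) : Subgroup G := Subgroup.closure (S.plGens L)

variable {L : AddSubgroup (Fin 4 → F)} (hL : IsLag L)
include hL

theorem plGens_mem {g : G} (hg : g ∈ S.plGens L) : ∃ h : g ∈ Kp d₁ d₂, (⟨g, h⟩ : Kp d₁ d₂) ∈ S.Qs L := by
  have hfour : ∀ k : Kp d₁ d₂, Four d₁ d₂ (k : G) → k ∈ S.Qs L := fun k hk => by
    refine ⟨fun u _ => ?_, ?_⟩
    · rw [S.phi_eq_one.1 (S.four_wc hk).1]; rfl
    · rw [(S.four_wc hk).2]; exact L.zero_mem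
  rcases hg with (e | e) | ⟨a, w, hwL, hw, rfl⟩
  · exact ⟨S.Op_le (S.four_mem_Op (Or.inr (Or.inl e))), hfour _ (Or.inr (Or.inl e))⟩
  · exact ⟨S.Op_le (S.four_mem_Op (Or.inr (Or.inr (Or.inl e)))), hfour _ (Or.inr (Or.inr (Or.inl e)))⟩
  · have hww := hL.orth w hwL w hwL
    refine ⟨S.mk_Kp hw hww a, fun u hu => ?_, ?_⟩
    · rw [show (⟨S.col a w, S.mk_Kp hw hww a⟩ : Kp d₁ d₂) = ⟨S.mb (a, 0, w), S.mb_mem_Kp (col_ne hw a)
        (S.col_iso hww a) rfl⟩ from rfl, S.phi_mb (col_ne hw a) (S.col_iso hww a) rfl]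
      simp [hL.orth u hu w hwL]
    · rw [wc, show (⟨S.col a w, S.mk_Kp hw hww a⟩ : Kp d₁ d₂) = ⟨S.mb (a, 0, w), S.mb_mem_Kp (col_ne hw a)
        (S.col_iso hww a) rfl⟩ from rfl, S.theta_mb (col_ne hw a) (S.col_iso hww a) rfl]
      have := hL.smul (ext6 hF ((0 : F), (1 : F), (0 : Fin 4 → F)) (a, 0, w)) w hwL
      simpa using this

theorem PL_le_map : S.PL L ≤ (S.Qs L).map (Kp d₁ d₂).subtype :=
  (Subgroup.closure_le _).2 fun g hg => by
    obtain ⟨h, hQ⟩ := S.plGens_mem hL hg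
    exact ⟨⟨g, h⟩, hQ, rfl⟩

theorem PL_le_Kp : S.PL L ≤ Kp d₁ d₂ := (S.PL_le_map hL).trans (Subgroup.map_subtype_le _)

theorem plGens_elementary : (∀ x ∈ S.PL L, ∀ y ∈ S.PL L, Commute x y) ∧ ∀ x ∈ S.PL L, x * x = 1 := by
  refine closure_elementary ?_ ?_
  · rintro x ((rfl | rfl) | ⟨a, w, hwL, hw, rfl⟩)
    exacts [mul_self S.set S.h1, mul_self S.set S.h2.1, mul_self S.set (S.mk_nb hw (hL.orth w hwL w hwL) a).1]
  · have key : ∀ (a : F) (w : Fin 4 → F), w ∈ L → w ≠ 0 → Commute (S.col a w) d₁ ∧ Commute (S.col a w) d₂ :=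
      fun a w hwL hw => mem_Kp.1 (S.mk_Kp hw (hL.orth w hwL w hwL) a)
    rintro x ((rfl | rfl) | ⟨a, w, hwL, hw, rfl⟩) y ((rfl | rfl) | ⟨b, w', hwL', hw', rfl⟩)
    exacts [Commute.refl _, S.h2.2.2, (key b w' hwL' hw').1.symm, S.h2.2.2.symm, Commute.refl _,
      (key b w' hwL' hw').2.symm, (key a w hwL hw).1, (key a w hwL hw).2,
      (S.commute_mb (col_ne hw a) (S.col_iso (hL.orth w hwL w hwL) a) (col_ne hw' b)
        (S.col_iso (hL.orth w' hwL' w' hwL') b)).2 (by simp [ext6, uExt, hL.orth w hwL w' hwL'])]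

theorem Qs_card_le : Nat.card (S.Qs L) ≤ 1024 := by
  rw [S.card_split]
  have h1 := S.fours_le (S.Qs L)
  have h2 : Nat.card (S.Uimg (S.Qs L)) ≤ 16 := hL.card ▸
    Nat.card_le_card_of_injective (fun x => ⟨x.1, by obtain ⟨k, hk, -, e⟩ := x.2; exact e ▸ hk.2⟩)
      fun x y h => Subtype.ext (congrArg Subtype.val h :)
  have h3 : Nat.card (S.levImg (S.Qs L)) ≤ 16 := lag_fix_card hF hL _ (S.levImg_le _) (by
    rintro _ ⟨k, hk, rfl⟩ u hu
    exact hk.1 u hu)
  calc _ ≤ 4 * 16 * 16 := Nat.mul_le_mul (Nat.mul_le_mul h1 h2) h3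
    _ = 1024 := by norm_num

theorem PK_card_ge : 1024 ≤ Nat.card ((S.PL L).subgroupOf (Kp d₁ d₂)) := by
  classical
  set P := (S.PL L).subgroupOf (Kp d₁ d₂)
  rw [S.card_split]
  have hd1 : d₁ ∈ S.PL L := Subgroup.subset_closure (Or.inl (Or.inl rfl))
  have hd2 : d₂ ∈ S.PL L := Subgroup.subset_closure (Or.inl (Or.inr rfl))
  have h1 : 4 ≤ (fours P).ncard := by
    let g : Fin 4 → Kp d₁ d₂ := ![1, S.el₁, S.el₂, S.el₁ * S.el₂]
    have hn1 : d₁ ≠ 1 := ne_one S.set S.h1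
    have hn2 : d₂ ≠ 1 := ne_one S.set S.h2.1
    have hn12 : d₁ ≠ d₂ := S.h2.2.1.symm
    have hz := S.prod_ne_one
    have hginj : Function.Injective g := by
      intro i j hij
      have h := congrArg Subtype.val hij
      fin_cases i <;> fin_cases j <;>
        simp [g, el₁, el₂, hn1, hn2, hn12, hn12.symm, hn1.symm, hn2.symm, hz, hz.symm] at h ⊢
    have hr : Set.range g ⊆ fours P := by
      rintro _ ⟨i, rfl⟩
      fin_cases i
      exacts [⟨one_mem P, Or.inl rfl⟩, ⟨hd1, Or.inr (Or.inl rfl)⟩, ⟨hd2, Or.inr (Or.inr (Or.inl rfl))⟩,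
        ⟨P.mul_mem hd1 hd2, Or.inr (Or.inr (Or.inr rfl))⟩]
    have := Set.ncard_le_ncard hr (Set.toFinite _)
    rwa [Set.ncard_range_of_injective hginj, Nat.card_eq_fintype_card, Fintype.card_fin] at this
  have hgen : ∀ (a : F) (w : Fin 4 → F) (hwL : w ∈ L) (hw : w ≠ 0),
      (⟨S.col a w, S.mk_Kp hw (hL.orth w hwL w hwL) a⟩ : Kp d₁ d₂) ∈ P := fun a w hwL hw =>
    Subgroup.mem_subgroupOf.2 (Subgroup.subset_closure (Or.inr ⟨a, w, hwL, hw, rfl⟩))
  have h2 : 16 ≤ Nat.card (S.Uimg P) := by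
    rw [← hL.card]
    refine Nat.card_le_card_of_injective (fun x => ⟨x.1, ?_⟩) fun x y h => Subtype.ext (congrArg Subtype.val h :)
    obtain ⟨w, hw⟩ := x
    by_cases h0 : w = 0
    · exact h0 ▸ (S.Uimg P).zero_mem
    have hww := hL.orth w hw w hw
    exact ⟨⟨S.col 0 w * S.col 1 w, mul_mem (S.mk_Kp h0 hww 0) (S.mk_Kp h0 hww 1)⟩,
      P.mul_mem (hgen 0 w hw h0) (hgen 1 w hw h0),
      (S.mem_Op.1 (S.col_pair_mem h0 hww 1)).2, S.wc_col_pair h0 hww⟩
  haveI : Finite ((Fin 4 → F) ≃ₗ[F] (Fin 4 → F)) := Fusion.SUData.finite_equiv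
  have h3 : 16 ≤ Nat.card (S.levImg P) := by
    obtain ⟨u₁, hu₁, u₀, hu₀, hn1, hind⟩ := hL.exists_basis hF
    obtain ⟨v₁, v₂, t, e1, e2, e3⟩ := exists_dual hF hn1 hind
    set u₂ := u₀ - t • u₁ with hu₂def
    have hu₂ : u₂ ∈ L := L.sub_mem hu₀ (hL.smul t _ hu₁)
    obtain ⟨ν, hν⟩ := S.exists_ne_conj
    have hν1 : ν ≠ 1 := fun e => hν (by rw [e, map_one])
    have hν0 : ν ≠ 0 := fun e => hν (by rw [e, map_zero])
    let wv : Fin 4 → Fin 4 → F := ![u₁, u₂, u₁ + u₂, u₁ + ν • u₂]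
    have hwL : ∀ i, wv i ∈ L := fun i => by
      fin_cases i
      exacts [hu₁, hu₂, L.add_mem hu₁ hu₂, L.add_mem hu₁ (hL.smul ν _ hu₂)]
    have hwne : ∀ i, wv i ≠ 0 := by
      have hb : ∀ a b : F, a • u₁ + b • u₂ = 0 → a = 0 := fun a b h => by
        have h' := congrArg (fun z => β z v₁) h
        simp only [(hW).add_left, (hW).smul_left, ← (hW).symm v₁, e1, e2, map_one, map_zero, mul_one, mul_zero,
          add_zero, (hW).zero_right] at h'
        exact h'
      intro i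
      fin_cases i
      · exact hn1
      · intro h
        have h' := congrArg (β v₂) h
        simp only [wv, (hW).zero_right] at h'
        exact one_ne_zero (e3.symm.trans h')
      · intro h; exact one_ne_zero (hb 1 1 (by rw [one_smul, one_smul]; exact h))
      · intro h; exact one_ne_zero (hb 1 ν (by rw [one_smul]; exact h))
    let el : Fin 4 → Kp d₁ d₂ := fun i =>
      ⟨S.col 0 (wv i), S.mk_Kp (hwne i) (hL.orth _ (hwL i) _ (hwL i)) 0⟩
    let sel : Bool → Fin 4 → Kp d₁ d₂ := fun b i => if b then el i else 1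
    let co : Bool → F := fun b => if b then 1 else 0
    have hsel : ∀ b i v, (S.co.lev (S.theta (sel b i)) : (Fin 4 → F) ≃ₗ[F] (Fin 4 → F)) v =
        v + (co b * β v (wv i)) • wv i := by
      intro b i v
      cases b
      · simp [sel, co]
      · simp only [sel, co, if_true, one_mul]
        exact S.phi_mb (col_ne (hwne i) 0) (S.col_iso (hL.orth _ (hwL i) _ (hwL i)) 0) rfl v
    let pr : Bool × Bool × Bool × Bool → Kp d₁ d₂ := fun a =>
      sel a.1 0 * sel a.2.1 1 * sel a.2.2.1 2 * sel a.2.2.2 3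
    have hpr : ∀ a v, (S.co.lev (S.theta (pr a)) : (Fin 4 → F) ≃ₗ[F] (Fin 4 → F)) v = v +
        ((co a.1 * β v u₁) • u₁ + (co a.2.1 * β v u₂) • u₂ + (co a.2.2.1 * β v (u₁ + u₂)) • (u₁ + u₂) +
          (co a.2.2.2 * β v (u₁ + ν • u₂)) • (u₁ + ν • u₂)) := by
      intro a v
      have z11 := hL.orth _ hu₁ _ hu₁
      have z12 := hL.orth _ hu₁ _ hu₂
      have z21 := hL.orth _ hu₂ _ hu₁
      have z22 := hL.orth _ hu₂ _ hu₂
      simp only [pr, map_mul, Subgroup.coe_mul, LinearEquiv.mul_apply, hsel, wv, Matrix.cons_val_zero,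
        Matrix.cons_val_one, Matrix.cons_val]
      simp only [(hW).add_left, (hW).smul_left, (hW).add_right, (hW).smul_right, z11, z12, z21, z22, mul_zero,
        add_zero]
      abel
    have hcard : 16 = Nat.card (Bool × Bool × Bool × Bool) := by simp
    rw [hcard]
    have hmem : ∀ a, pr a ∈ P := fun a => by
      have hs : ∀ b i, sel b i ∈ P := fun b i => by
        cases b
        · exact one_mem P
        · exact hgen 0 _ (hwL i) (hwne i)
      exact P.mul_mem (P.mul_mem (P.mul_mem (hs _ _) (hs _ _)) (hs _ _)) (hs _ _)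
    refine Nat.card_le_card_of_injective (fun a => ⟨_, S.mem_levImg.2 ⟨pr a, hmem a, rfl⟩⟩) ?_
    intro a b hab
    have he : ∀ v, (S.co.lev (S.theta (pr a)) : (Fin 4 → F) ≃ₗ[F] (Fin 4 → F)) v =
        (S.co.lev (S.theta (pr b)) : (Fin 4 → F) ≃ₗ[F] (Fin 4 → F)) v :=
      LinearEquiv.congr_fun (congrArg Subtype.val hab :)
    have k1 := he v₁
    have k2 := he v₂
    rw [hpr, hpr, add_right_inj] at k1 k2
    have p11 := congrArg (β v₁) k1
    have p21 := congrArg (β v₂) k1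
    have p22 := congrArg (β v₂) k2
    simp only [(hW).add_right, (hW).smul_right, e1, e2, e3, map_mul, map_add, map_one, map_zero, mul_one,
      mul_zero, add_zero] at p11 p21 p22
    have hco : ∀ b : Bool, σ (co b) = co b := fun b => by cases b <;> simp [co]
    simp only [hco, (hW).invol] at p11 p21 p22
    have hcinj : ∀ b b' : Bool, co b = co b' → b = b' := by
      intro b b' h; cases b <;> cases b' <;> simp [co] at h ⊢
    obtain ⟨a1, a2, a3, a4⟩ := a
    obtain ⟨b1, b2, b3, b4⟩ := b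
    set x1 := co a1 - co b1 with hx1
    set x2 := co a2 - co b2 with hx2
    set x3 := co a3 - co b3 with hx3
    set x4 := co a4 - co b4 with hx4
    have q11 : x1 + x3 + x4 = 0 := by rw [hx1, hx3, hx4]; linear_combination p11
    have hfix : ∀ b b' : Bool, σ (co b - co b') = co b - co b' := fun b b' => by rw [map_sub, hco, hco]
    have q34 : x3 + σ ν * x4 = 0 := by
      have h34 : (x3 + σ ν * x4) + σ (β v₂ u₁) * (x1 + x3 + x4) = 0 ∨
          (x3 + σ ν * x4) + β v₂ u₁ * (x1 + x3 + x4) = 0 := by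
        first
          | exact Or.inl (by rw [hx1, hx3, hx4]; linear_combination p21)
          | exact Or.inr (by rw [hx1, hx3, hx4]; linear_combination p21)
      rcases h34 with h | h <;> rw [q11, mul_zero, add_zero] at h <;> exact h
    have hx40 : x4 = 0 := by
      have h' := congrArg σ q34
      rw [map_add, map_mul, (hW).invol, map_zero, hfix a3 b3, hfix a4 b4] at h'
      have : (ν - σ ν) * x4 = 0 := by linear_combination h' - q34
      exact (mul_eq_zero.1 this).resolve_left (sub_ne_zero.2 fun e => hν e.symm)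
    have hx30 : x3 = 0 := by rw [hx40, mul_zero, add_zero] at q34; exact q34
    have hx10 : x1 = 0 := by rw [hx40, hx30, add_zero, add_zero] at q11; exact q11
    obtain rfl := hcinj _ _ (sub_eq_zero.1 (hx1 ▸ hx10))
    obtain rfl := hcinj _ _ (sub_eq_zero.1 (hx3 ▸ hx30))
    obtain rfl := hcinj _ _ (sub_eq_zero.1 (hx4 ▸ hx40))
    have : x2 = 0 := by rw [hx2]; linear_combination p22
    obtain rfl := hcinj _ _ (sub_eq_zero.1 (hx2 ▸ this))
    rfl
  calc 1024 = 4 * 16 * 16 := by norm_num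
    _ ≤ _ := Nat.mul_le_mul (Nat.mul_le_mul h1 h2) h3

theorem PK_eq : (S.PL L).subgroupOf (Kp d₁ d₂) = S.Qs L := by
  refine Subgroup.eq_of_le_of_card_ge (fun k hk => ?_) ((S.Qs_card_le hL).trans (S.PK_card_ge hL))
  obtain ⟨l, hl, e⟩ := S.PL_le_map hL (Subgroup.mem_subgroupOf.1 hk)
  exact (Subtype.ext e : l = k) ▸ hl

theorem card_PL : Nat.card (S.PL L) = 1024 := by
  rw [← Nat.card_congr (Subgroup.subgroupOfEquivOfLe (S.PL_le_Kp hL)).toEquiv]
  exact le_antisymm (S.PK_eq hL ▸ S.Qs_card_le hL) (S.PK_card_ge hL)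

omit hL

/-- A large elementary abelian subgroup belongs to a plane. -/
theorem exists_plane {A : Subgroup G} (hA : A ≤ Cp d₁ d₂) (hsq : ∀ x ∈ A, x * x = 1)
    (hc : ∀ x ∈ A, ∀ y ∈ A, Commute x y) (hbig : 1024 ≤ Nat.card A) :
    ∃ L : AddSubgroup (Fin 4 → F), IsLag L ∧ A = S.PL L := by
  classical
  set A1 := A.subgroupOf (Kp d₁ d₂) with hA1
  set U := S.Uimg A1
  have hcomm1 : ∀ k ∈ A1, ∀ l ∈ A1, k * l = l * k := fun k hk l hl => Subtype.ext (hc _ hk _ hl).eq
  have hsq1 : ∀ k ∈ A1, k * k = 1 := fun k hk => Subtype.ext (hsq _ hk)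
  have hfixU : ∀ g ∈ S.levImg A1, ∀ u ∈ U, g u = u := by
    rintro _ ⟨k, hk, rfl⟩ _ ⟨l, hl, hl1, rfl⟩
    exact (S.comm_data hl1 (hcomm1 k hk l hl)).1
  have hUU : ∀ u ∈ U, ∀ u' ∈ U, σ (β u u') = β u u' := by
    rintro _ ⟨k, hk, -, rfl⟩ _ ⟨l, hl, hl1, rfl⟩
    exact (S.comm_data hl1 (hcomm1 k hk l hl)).2
  have hrank : 256 ≤ Nat.card U * Nat.card (S.levImg A1) → IsLag U :=
    rank_bound hF _ (S.levImg_le _)
      (by rintro _ ⟨k, hk, rfl⟩; rw [← map_mul, hsq1 k hk, map_one])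
      (by rintro _ ⟨k, hk, rfl⟩ _ ⟨l, hl, rfl⟩; rw [← map_mul, ← map_mul, hcomm1 k hk l hl])
      U hfixU hUU
  have hAQ : IsLag U → A1 ≤ S.Qs U := by
    intro hU k hk
    refine ⟨fun u hu => hfixU _ ⟨k, hk, rfl⟩ u hu, hU.mem_of_perp hF fun u hu => ?_⟩
    obtain ⟨l, hl, hl1, rfl⟩ := hu
    obtain ⟨ν, hν⟩ := S.exists_ne_conj
    have h1 := (S.comm_data hl1 (hcomm1 k hk l hl)).2
    obtain ⟨l', hl', hl1', e⟩ := hU.smul ν (S.wc l) ⟨l, hl, hl1, rfl⟩
    have h2 := (S.comm_data hl1' (hcomm1 k hk l' hl')).2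
    rw [e, (hW).smul_right, map_mul, (hW).invol, h1] at h2
    have h3 : (ν - σ ν) * β (S.wc k) (S.wc l) = 0 := by linear_combination h2
    exact (mul_eq_zero.1 h3).resolve_left (sub_ne_zero.2 fun e => hν e.symm)
  by_cases hle : A ≤ Kp d₁ d₂
  · have hcard : Nat.card A1 = Nat.card A := Nat.card_congr (Subgroup.subgroupOfEquivOfLe hle).toEquiv
    have hU : IsLag U := hrank (by
      have h : Nat.card A1 = (fours A1).ncard * Nat.card U * Nat.card (S.levImg A1) := S.card_split A1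
      have := S.fours_le A1
      rw [hcard] at h
      have : (fours A1).ncard * Nat.card U * Nat.card (S.levImg A1) ≤ 4 * (Nat.card U * Nat.card (S.levImg A1)) := by
        rw [mul_assoc]; exact Nat.mul_le_mul_right _ this
      omega)
    refine ⟨U, hU, ?_⟩
    have heq : A1 = S.Qs U :=
      Subgroup.eq_of_le_of_card_ge (hAQ hU) ((S.Qs_card_le hU).trans (hcard ▸ hbig))
    rw [← S.PK_eq hU] at heq
    have := congrArg (Subgroup.map (Kp d₁ d₂).subtype) heq
    rwa [hA1, Subgroup.map_subgroupOf_eq_of_le hle, Subgroup.map_subgroupOf_eq_of_le (S.PL_le_Kp hU)] at this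
  exfalso
  obtain ⟨a₀, ha₀, ha₀K⟩ := SetLike.not_le_iff_exists.1 hle
  have hsw : a₀ * d₁ * a₀⁻¹ = d₂ ∧ a₀ * d₂ * a₀⁻¹ = d₁ := (S.cases (hA ha₀)).resolve_left ha₀K
  have hA2 : Nat.card A ≤ 2 * Nat.card A1 := by
    have hb : Nat.card Bool = 2 := by simp
    rw [← hb, ← Nat.card_prod]
    refine Nat.card_le_card_of_surjective
      (fun p : Bool × A1 => if p.1 then (⟨a₀ * (p.2.1 : G), A.mul_mem ha₀ p.2.2⟩ : A) else ⟨p.2.1, p.2.2⟩) ?_
    rintro ⟨x, hx⟩
    by_cases hxK : x ∈ Kp d₁ d₂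
    · exact ⟨(false, ⟨⟨x, hxK⟩, hx⟩), rfl⟩
    have hswx := (S.cases (hA hx)).resolve_left hxK
    have hmem : a₀⁻¹ * x ∈ Kp d₁ d₂ := by
      have e1 : a₀⁻¹ * x * d₁ * (a₀⁻¹ * x)⁻¹ = d₁ := by
        rw [show a₀⁻¹ * x * d₁ * (a₀⁻¹ * x)⁻¹ = a₀⁻¹ * (x * d₁ * x⁻¹) * a₀ by group, hswx.1, ← hsw.1]
        group
      have e2 : a₀⁻¹ * x * d₂ * (a₀⁻¹ * x)⁻¹ = d₂ := by
        rw [show a₀⁻¹ * x * d₂ * (a₀⁻¹ * x)⁻¹ = a₀⁻¹ * (x * d₂ * x⁻¹) * a₀ by group, hswx.2, ← hsw.2]
        group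
      exact mem_Kp.2 ⟨mul_inv_eq_iff_eq_mul.1 e1, mul_inv_eq_iff_eq_mul.1 e2⟩
    exact ⟨(true, ⟨⟨_, hmem⟩, A.mul_mem (A.inv_mem ha₀) hx⟩), Subtype.ext (mul_inv_cancel_left a₀ x)⟩
  have hnd : ∀ {d d' : G}, a₀ * d * a₀⁻¹ = d' → d ≠ d' → d ∉ A := fun e hne hd =>
    hne (e ▸ (by rw [(hc a₀ ha₀ _ hd).eq, mul_inv_cancel_right]))
  have hd1A : d₁ ∉ A := hnd hsw.1 S.h2.2.1.symm
  have hd2A : d₂ ∉ A := hnd hsw.2 S.h2.2.1
  have h2 : (fours A1).ncard ≤ 2 := by
    have h : (fours A1).ncard ≤ ({1, d₁ * d₂} : Set G).ncard :=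
      Set.ncard_le_ncard_of_injOn Subtype.val (fun k hk => by
        rcases hk.2 with h | h | h | h
        · simp [h]
        · exact absurd (h ▸ hk.1) hd1A
        · exact absurd (h ▸ hk.1) hd2A
        · simp [h]) Subtype.val_injective.injOn (Set.toFinite _)
    have h1 := Set.ncard_insert_le (1 : G) ({d₁ * d₂} : Set G)
    rw [Set.ncard_singleton] at h1
    omega
  have hU : IsLag U := hrank (by
    have h : Nat.card A1 = (fours A1).ncard * Nat.card U * Nat.card (S.levImg A1) := S.card_split A1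
    have : (fours A1).ncard * Nat.card U * Nat.card (S.levImg A1) ≤ 2 * (Nat.card U * Nat.card (S.levImg A1)) := by
      rw [mul_assoc]; exact Nat.mul_le_mul_right _ h2
    omega)
  have hQ := hAQ hU
  have hel : S.el₁ ∈ S.Qs U := (S.plGens_mem hU (Or.inl (Or.inl rfl))).choose_spec
  have hnel : S.el₁ ∉ A1 := hd1A
  have hcov : ∀ q ∈ S.Qs U, q ∈ A1 ∨ q * S.el₁ ∈ A1 := by
    let f : Bool × A1 → S.Qs U := fun p =>
      if p.1 then ⟨p.2.1 * S.el₁, (S.Qs U).mul_mem (hQ p.2.2) hel⟩ else ⟨p.2.1, hQ p.2.2⟩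
    have hinj : Function.Injective f := by
      rintro ⟨b, x⟩ ⟨b', y⟩ h
      cases b <;> cases b' <;> simp only [f, Bool.false_eq_true, if_false, if_true, Subtype.mk.injEq] at h
      · exact Prod.ext rfl (Subtype.ext h)
      · exfalso
        refine hnel ?_
        have := A1.mul_mem (A1.inv_mem y.2) x.2
        rwa [h, inv_mul_cancel_left] at this
      · exfalso
        refine hnel ?_
        have := A1.mul_mem (A1.inv_mem x.2) y.2
        rwa [← h, inv_mul_cancel_left] at this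
      · exact Prod.ext rfl (Subtype.ext (mul_right_cancel h))
    have hbij := (Nat.bijective_iff_injective_and_card f).2 ⟨hinj, le_antisymm
      (Nat.card_le_card_of_injective f hinj) ((S.Qs_card_le hU).trans (by
        rw [Nat.card_prod, Nat.card_eq_fintype_card, Fintype.card_bool]; omega))⟩
    intro q hq
    obtain ⟨⟨b, x⟩, hx⟩ := hbij.2 ⟨q, hq⟩
    have hx' := congrArg Subtype.val hx
    cases b
    · simp only [f, Bool.false_eq_true, if_false] at hx'
      exact Or.inl (hx' ▸ x.2)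
    · simp only [f, if_true] at hx'
      refine Or.inr ?_
      rw [← hx', mul_assoc, show S.el₁ * S.el₁ = 1 from Subtype.ext (mul_self S.set S.h1), mul_one]
      exact x.2
  obtain ⟨u, hu, -, -, hu0, -⟩ := hU.exists_basis hF
  have huu := hU.orth u hu u hu
  have hfix : ∀ t, Commute a₀ (S.col t u) := by
    intro t
    have hmQ := (S.plGens_mem hU (Or.inr ⟨t, u, hu, hu0, rfl⟩)).choose_spec
    rcases hcov _ hmQ with h | h
    · exact hc a₀ ha₀ _ h
    exfalso
    set m := S.col t u with hm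
    have hcm : Commute a₀ (m * d₁) := hc a₀ ha₀ _ h
    set m' := a₀ * m * a₀⁻¹ with hm'
    have h1 : m' * d₂ = m * d₁ := by
      rw [← hsw.1, hm', show a₀ * m * a₀⁻¹ * (a₀ * d₁ * a₀⁻¹) = a₀ * (m * d₁) * a₀⁻¹ by group, hcm.eq,
        mul_inv_cancel_right]
    have hm'D : m' ∈ D := S.hX.conj a₀ m (S.mk_nb hu0 huu t).1
    have hmD : m ∈ D := (S.mk_nb hu0 huu t).1
    obtain ⟨hmd1, hmd2⟩ : Commute m d₁ ∧ Commute m d₂ := mem_Kp.1 (S.mk_Kp hu0 huu t)
    have hval : m' = m * d₁ * d₂ := by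
      rw [← h1, mul_assoc, mul_self S.set S.h2.1, mul_one]
    have hmn1 : m ≠ d₁ := (S.mk_nb hu0 huu t).2.1
    have hmn2 : m ≠ d₂ := (S.mk_nb_two hu0 huu t).2.1
    have n0 : m' ≠ m := fun e => S.prod_ne_one (mul_left_cancel (a := m) (by rw [mul_one, ← mul_assoc, ← hval, e]))
    have n1 : m' ≠ d₁ := fun e => hmn2 (by
      rw [e, hmd1.eq, mul_assoc] at hval
      exact (mul_eq_one_iff_eq_inv.1 (mul_left_cancel (a := d₁) (by rw [mul_one]; exact hval.symm))).trans
        (inv_eq S.set S.h2.1))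
    have n2 : m' ≠ d₂ := fun e => hmn1 (by
      rw [e] at hval
      have : m * d₁ = 1 := mul_right_cancel (b := d₂) (by rw [one_mul]; exact hval.symm)
      exact (mul_eq_one_iff_eq_inv.1 this).trans (inv_eq S.set S.h1))
    have c1 : Commute m' d₁ := hval ▸ (((hmd1.mul_left (Commute.refl d₁)).mul_left S.h2.2.2.symm))
    have c2 : Commute m' d₂ := hval ▸ ((hmd2.mul_left S.h2.2.2).mul_left (Commute.refl d₂))
    have c0 : Commute m' m := hval ▸ (((Commute.refl m).mul_left hmd1.symm).mul_left hmd2.symm)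
    refine S.hX.noFour [m', m, d₁, d₂] ?_ rfl ?_ ?_ ?_
    · simp [n0, n1, n2, hmn1, hmn2, S.h2.2.1.symm]
    · simp [hm'D, hmD, S.h1, S.h2.1]
    · simp [c0, c0.symm, c1, c1.symm, c2, c2.symm, hmd1, hmd1.symm, hmd2, hmd2.symm, S.h2.2.2, S.h2.2.2.symm,
        Commute.refl]
    · simp only [List.prod_cons, List.prod_nil, mul_one]
      rw [show m * (d₁ * d₂) = m' by rw [hval, mul_assoc], mul_self S.set hm'D]
  obtain ⟨ν, hν⟩ := S.exists_ne_conj
  have hν0 : ν ≠ 0 := fun e => hν (by rw [e, map_zero])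
  have hν1 : ν ≠ 1 := fun e => hν (by rw [e, map_one])
  exact hν1 (S.line_contra hu0 huu (hfix 0) hsw hν0 one_ne_zero (hfix ν) (hfix 1))

/-- The Thompson subgroup of a Sylow subgroup containing the subgroup of a plane. -/
theorem thompson_eq {T : Subgroup G} (hT : IsPGroup 2 T) (hTC : T ≤ Cp d₁ d₂)
    (hL : IsLag L) (hPT : S.PL L ≤ T) :
    Subgroup.closure {x : G | x ∈ D ∧ x ∈ T} = Cfsg.thompsonSubgroupOf 2 T := by
  have hcomm : ∀ x ∈ D, ∀ y ∈ D, x ∈ T → y ∈ T → Commute x y := by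
    intro x hx y hy hxT hyT
    by_contra h
    obtain ⟨k, hk⟩ := hT ⟨x * y, T.mul_mem hxT hyT⟩
    have h3 := orderOf_eq_three S.set hx hy h
    have hk' : (x * y) ^ 2 ^ k = 1 := by
      have := congrArg Subtype.val hk
      simpa using this
    have hdvd := orderOf_dvd_of_pow_eq_one hk'
    rw [h3] at hdvd
    have := Nat.prime_three.dvd_of_dvd_pow hdvd
    norm_num at this
  have hgenT : ∀ {L' : AddSubgroup (Fin 4 → F)}, IsLag L' → S.PL L' ≤ T → ∀ w ∈ L', ∀ u ∈ L, β w u = 0 := by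
    intro L' hL' hle w hw u hu
    by_cases hw0 : w = 0
    · rw [hw0, (hW).zero_left]
    by_cases hu0 : u = 0
    · rw [hu0, (hW).zero_right]
    have hww := hL'.orth w hw w hw
    have huu := hL.orth u hu u hu
    have := (S.commute_mb (col_ne hw0 0) (S.col_iso hww 0) (col_ne hu0 0) (S.col_iso huu 0)).1
      (hcomm _ (S.mk_nb hw0 hww 0).1 _ (S.mk_nb hu0 huu 0).1
        (hle (Subgroup.subset_closure (Or.inr ⟨0, w, hw, hw0, rfl⟩)))
        (hPT (Subgroup.subset_closure (Or.inr ⟨0, u, hu, hu0, rfl⟩))))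
    simpa [ext6, uExt] using this
  have hP : Subgroup.closure {x : G | x ∈ D ∧ x ∈ T} = S.PL L := by
    refine le_antisymm ((Subgroup.closure_le _).2 ?_) ((Subgroup.closure_le _).2 fun x hx => ?_)
    · rintro x ⟨hxD, hxT⟩
      obtain ⟨hx1, hx2⟩ := commute_of_commute_mul S.set S.h1 S.h2.1 hxD S.h2.2.1.symm (mem_Cp.1 (hTC hxT))
      by_cases e1 : x = d₁
      · exact Subgroup.subset_closure (Or.inl (Or.inl e1))
      obtain ⟨⟨a, y, w⟩, hp, hpp, hy, rfl⟩ := S.exists_mb ⟨hxD, e1, hx1.symm⟩ hx2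
      simp only at hy
      subst hy
      by_cases hw : w = 0
      · subst hw
        have ha : a ≠ 0 := fun e => hp (by rw [e]; rfl)
        have : S.mb (a, 0, 0) = d₂ :=
          ((S.mb_eq_iff hp hpp S.base_ne S.base_iso).2 ⟨a, ha, by simp [Prod.smul_mk]⟩).trans S.mb_base
        exact Subgroup.subset_closure (Or.inl (Or.inr this))
      have hww : β w w = 0 := by simpa [ext6, uExt] using hpp
      refine Subgroup.subset_closure (Or.inr ⟨a, w, hL.mem_of_perp hF fun u hu => ?_, hw, rfl⟩)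
      by_cases hu0 : u = 0
      · rw [hu0, (hW).zero_right]
      have huu := hL.orth u hu u hu
      have := (S.commute_mb hp hpp (col_ne hu0 0) (S.col_iso huu 0)).1
        (hcomm _ hxD _ (S.mk_nb hu0 huu 0).1 hxT
          (hPT (Subgroup.subset_closure (Or.inr ⟨0, u, hu, hu0, rfl⟩))))
      simpa [ext6, uExt] using this
    · refine Subgroup.subset_closure ⟨?_, hPT (Subgroup.subset_closure hx)⟩
      rcases hx with (rfl | rfl) | ⟨a, w, hwL, hw, rfl⟩
      exacts [S.h1, S.h2.1, (S.mk_nb hw (hL.orth w hwL w hwL) a).1]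
  rw [hP]
  set PT := (S.PL L).subgroupOf T with hPTdef
  have hPTel : Cfsg.IsElementaryAbelian 2 PT :=
    ⟨⟨⟨fun x y => Subtype.ext (Subtype.ext ((S.plGens_elementary hL).1 _ x.2 _ y.2).eq)⟩⟩,
      fun x hx => Subtype.ext (by rw [SubmonoidClass.coe_pow, pow_two]; exact (S.plGens_elementary hL).2 _ hx)⟩
  have hPTcard : Nat.card PT = 1024 := by
    rw [Nat.card_congr (Subgroup.subgroupOfEquivOfLe hPT).toEquiv, S.card_PL hL]
  have huniq : ∀ B : Subgroup T, Cfsg.IsElementaryAbelian 2 B → 1024 ≤ Nat.card B → B = PT := by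
    intro B hB hcard
    set A := B.map T.subtype with hA
    obtain ⟨L', hL', hAL⟩ := S.exists_plane (A := A) ((Subgroup.map_subtype_le _).trans hTC)
      (by
        rintro _ ⟨x, hx, rfl⟩
        rw [← map_mul, ← pow_two, hB.2 x hx, map_one])
      (by
        rintro _ ⟨x, hx, rfl⟩ _ ⟨y, hy, rfl⟩
        have := hB.1.is_comm.comm (⟨x, hx⟩ : B) ⟨y, hy⟩
        exact (congrArg Subtype.val (congrArg Subtype.val this) :))
      (by rwa [hA, Subgroup.card_map_of_injective T.subtype_injective])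
    have hsub : (L' : Set (Fin 4 → F)) ⊆ L := fun w hw =>
      hL.mem_of_perp hF fun u hu => hgenT hL' (hAL ▸ Subgroup.map_subtype_le _) w hw u hu
    have hLL : L' = L := SetLike.coe_injective (Set.eq_of_subset_of_ncard_le hsub (by
      rw [← Nat.card_coe_set_eq, ← Nat.card_coe_set_eq, SetLike.coe_sort_coe, SetLike.coe_sort_coe, hL.card,
        hL'.card]) (Set.toFinite _))
    subst hLL
    rw [hPTdef, ← hAL, hA, ← Subgroup.comap_subtype, Subgroup.comap_map_eq_self_of_injective T.subtype_injective]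
  have hset : Cfsg.maxElementaryAbelianSubgroups 2 T = {PT} := by
    ext B
    constructor
    · rintro ⟨hB, hmax⟩
      exact huniq B hB (hPTcard ▸ hmax PT hPTel)
    · rintro rfl
      refine ⟨hPTel, fun B hB => ?_⟩
      by_contra hlt
      push Not at hlt
      rw [huniq B hB (by omega)] at hlt
      exact lt_irrefl _ hlt
  rw [Cfsg.thompsonSubgroupOf, Cfsg.thompsonSubgroup, hset, sSup_singleton, hPTdef,
    Subgroup.map_subgroupOf_eq_of_le hPT]

end Setup

end Cfsg.Agent.Lib.FischerPair
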